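import Cfsg.Agent.Lib.EqOrder.Tools
import Cfsg.Agent.Lib.Char.Burnside
import Cfsg.Agent.Lib.Solvable.HallHigman

/-!
# Five automorphism orbits: the element orders `1, 2, p, r, 2p`

`Spec G p r`: a simple group with these element orders in which elements of the same order are
conjugate under automorphisms.  Elements of order `p` are centralised by involutions and by Sylow
`p`-subgroups, so by Burnside no such element is centralised by a Sylow 2-subgroup.
-/

set_option autoImplicit false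
set_option linter.unusedSectionVars false
set_option linter.style.haveILetI false

namespace CfsgLib.FiveOrbit

open Subgroup CfsgLib.Invol CfsgLib.EqOrder

/-- The standing hypotheses. -/
structure Spec (G : Type*) [Group G] (p r : ℕ) : Prop where
  simple : IsSimpleGroup G
  nonab : ¬ IsMulCommutative G
  hp : p.Prime
  hr : r.Prime
  p_odd : Odd p
  r_odd : Odd r
  ne : p ≠ r
  ord : ∀ g : G, orderOf g = 1 ∨ orderOf g = 2 ∨ orderOf g = p ∨ orderOf g = r ∨ orderOf g = 2 * p
  two_p : ∃ g : G, orderOf g = 2 * p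
  orbit : ∀ a b : G, orderOf a = orderOf b → ∃ σ : MulAut G, σ a = b

variable {G : Type*} [Group G] [Finite G] {p r : ℕ}

theorem card_centralizer_map (σ : MulAut G) (a : G) :
    Nat.card (Subgroup.centralizer ({σ a} : Set G)) = Nat.card (Subgroup.centralizer ({a} : Set G)) := by
  refine Nat.card_congr (σ.toEquiv.subtypeEquiv fun x => ?_).symm
  show x ∈ Subgroup.centralizer ({a} : Set G) ↔ σ x ∈ Subgroup.centralizer ({σ a} : Set G)
  rw [Subgroup.mem_centralizer_singleton_iff, Subgroup.mem_centralizer_singleton_iff, ← map_mul,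
    ← map_mul, σ.injective.eq_iff]

/-- A solvable group with trivial odd core and abelian Sylow 2-subgroup `T` has `T` normal and
self-centralising. -/
theorem normal_of_oddCore_bot {X : Type*} [Group X] [Finite X] [Group.IsSolvable X]
    (hO : Cfsg.oddCore X = ⊥) (T : Sylow 2 X)
    (hab : ∀ a ∈ (T : Subgroup X), ∀ b ∈ (T : Subgroup X), a * b = b * a) :
    (T : Subgroup X).Normal ∧
      ∀ x : X, (∀ a ∈ (T : Subgroup X), Commute x a) → x ∈ (T : Subgroup X) := by
  haveI : Fact (Nat.Prime 2) := ⟨Nat.prime_two⟩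
  haveI hn : (Cfsg.pCore 2 X).Normal := CfsgLib.Solvable.pCore_normal 2 X
  have hle : Cfsg.pCore 2 X ≤ (T : Subgroup X) := by
    intro x hx
    obtain ⟨g, hg⟩ := exists_conj_mem_sylow T (CfsgLib.Solvable.pCore_isPGroup (G := X) 2)
    have := hg (g⁻¹ * x * g) (by simpa using hn.conj_mem x hx g⁻¹)
    rwa [show g * (g⁻¹ * x * g) * g⁻¹ = x by group] at this
  have hC := CfsgLib.Solvable.centralizer_pCore_le (G := X) 2 hO
  have heq : (T : Subgroup X) = Cfsg.pCore 2 X := by
    refine le_antisymm (fun a ha => hC (mem_centralizer_iff.2 fun b hb => hab b (hle hb) a ha)) hle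
  refine ⟨heq ▸ hn, fun x hx => ?_⟩
  rw [heq]
  refine hC (mem_centralizer_iff.2 fun b hb => (hx b ?_).symm.eq)
  exact hle hb

namespace Spec

variable (h : Spec G p r)
include h

theorem prime_cases {q : ℕ} (hq : q.Prime) {g : G} (hdvd : q ∣ orderOf g) : q = 2 ∨ q = p ∨ q = r := by
  have h2 := (Nat.prime_dvd_prime_iff_eq hq Nat.prime_two).1
  have h3 := (Nat.prime_dvd_prime_iff_eq hq h.hp).1
  have h4 := (Nat.prime_dvd_prime_iff_eq hq h.hr).1
  rcases h.ord g with e | e | e | e | e <;> rw [e] at hdvd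
  · exact absurd (Nat.dvd_one.1 hdvd) hq.one_lt.ne'
  · exact Or.inl (h2 hdvd)
  · exact Or.inr (Or.inl (h3 hdvd))
  · exact Or.inr (Or.inr (h4 hdvd))
  · exact ((Nat.Prime.dvd_mul hq).1 hdvd).imp h2 fun hd => Or.inl (h3 hd)

theorem prime_dvd_card {q : ℕ} (hq : q.Prime) (hdvd : q ∣ Nat.card G) : q = 2 ∨ q = p ∨ q = r := by
  haveI := Fact.mk hq
  obtain ⟨g, hg⟩ := exists_prime_orderOf_dvd_card' q hdvd
  exact h.prime_cases hq hg.symm.dvd

theorem ne_two : p ≠ 2 ∧ r ≠ 2 :=
  ⟨fun e => absurd (e ▸ h.p_odd) (by decide), fun e => absurd (e ▸ h.r_odd) (by decide)⟩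

theorem three_le : 3 ≤ p ∧ 3 ≤ r := by
  have := h.ne_two
  have := h.hp.two_le
  have := h.hr.two_le
  omega

/-- No element has order divisible by `2 r`. -/
theorem not_two_r (g : G) (h2 : 2 ∣ orderOf g) : ¬ r ∣ orderOf g := by
  intro hr'
  have hdvd : 2 * r ∣ orderOf g :=
    Nat.Coprime.mul_dvd_of_dvd_of_dvd (Nat.coprime_two_left.2 h.r_odd) h2 hr'
  have hpos := Nat.le_of_dvd (orderOf_pos g) hdvd
  have := h.three_le
  rcases h.ord g with e | e | e | e | e <;> rw [e] at hdvd h2 hpos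
  · omega
  · omega
  · exact Nat.not_even_iff_odd.2 h.p_odd (even_iff_two_dvd.2 h2)
  · omega
  · exact h.ne ((Nat.prime_dvd_prime_iff_eq h.hr h.hp).1
      (Nat.eq_of_mul_eq_mul_left two_pos (Nat.eq_of_dvd_of_lt_two_mul (by omega) hdvd (by
        by_contra hlt
        have h5 := (Nat.Prime.dvd_mul h.hr).1 ((dvd_mul_left r 2).trans hdvd)
        rcases h5 with h5 | h5
        · exact h.ne_two.2 ((Nat.prime_dvd_prime_iff_eq h.hr Nat.prime_two).1 h5)
        · exact h.ne ((Nat.prime_dvd_prime_iff_eq h.hr h.hp).1 h5).symm)) ▸ dvd_rfl)).symm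

theorem not_commute_r {u x : G} (hu : orderOf u = 2) (hx : orderOf x = r) (hc : Commute u x) :
    False := by
  have he := hc.orderOf_mul_eq_mul_orderOf_of_coprime
    (by rw [hu, hx]; exact Nat.coprime_two_left.2 h.r_odd)
  rw [hu, hx] at he
  exact h.not_two_r (u * x) (he ▸ dvd_mul_right 2 r) (he ▸ dvd_mul_left r 2)

/-- Two elements of orders `p` and `r` do not commute. -/
theorem not_commute_pr {y x : G} (hy : orderOf y = p) (hx : orderOf x = r) (hc : Commute y x) :
    False := by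
  have he := hc.orderOf_mul_eq_mul_orderOf_of_coprime
    (by rw [hy, hx]; exact (Nat.coprime_primes h.hp h.hr).2 h.ne)
  rw [hy, hx] at he
  have h1 : r ∣ orderOf (y * x) := he ▸ dvd_mul_left r p
  have h2 : p ∣ orderOf (y * x) := he ▸ dvd_mul_right p r
  have h3 := h.three_le
  rcases h.ord (y * x) with e | e | e | e | e <;> rw [e] at h1 h2 he
  · nlinarith
  · nlinarith
  · exact h.ne ((Nat.prime_dvd_prime_iff_eq h.hr h.hp).1 h1).symm
  · exact h.ne ((Nat.prime_dvd_prime_iff_eq h.hp h.hr).1 h2)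
  · rcases (Nat.Prime.dvd_mul h.hr).1 h1 with h5 | h5
    · exact h.ne_two.2 ((Nat.prime_dvd_prime_iff_eq h.hr Nat.prime_two).1 h5)
    · exact h.ne ((Nat.prime_dvd_prime_iff_eq h.hr h.hp).1 h5).symm

theorem order_of_odd {g : G} (hg : Odd (orderOf g)) (h1 : g ≠ 1) : orderOf g = p ∨ orderOf g = r := by
  rcases h.ord g with e | e | e | e | e
  · exact absurd (orderOf_eq_one_iff.1 e) h1
  · rw [e] at hg; exact absurd hg (by decide)
  · exact Or.inl e
  · exact Or.inr e
  · rw [e] at hg; exact absurd hg (Nat.not_odd_iff_even.2 (even_two_mul p))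

theorem sq_of_two_pow {g : G} {k : ℕ} (hg : orderOf g = 2 ^ k) : g * g = 1 := by
  rw [← pow_two, ← orderOf_dvd_iff_pow_eq_one]
  rcases h.ord g with e | e | e | e | e
  · rw [e]; exact one_dvd _
  · rw [e]
  all_goals
    exfalso
    rcases k with _ | k
    · rw [hg, pow_zero] at e
      have := h.three_le
      omega
    · have h2 : 2 ∣ orderOf g := hg ▸ dvd_pow_self 2 (Nat.succ_ne_zero k)
      rw [e] at h2
      first
        | exact Nat.not_even_iff_odd.2 h.p_odd (even_iff_two_dvd.2 h2)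
        | exact Nat.not_even_iff_odd.2 h.r_odd (even_iff_two_dvd.2 h2)
        | (have hd : p ∣ 2 ^ (k + 1) := hg ▸ e ▸ dvd_mul_left p 2
           exact h.ne_two.1 ((Nat.prime_dvd_prime_iff_eq h.hp Nat.prime_two).1 (h.hp.dvd_of_dvd_pow hd)))

theorem sq_sylow (T : Sylow 2 G) : ∀ a ∈ (T : Subgroup G), a * a = 1 := by
  intro a ha
  haveI : Fact (Nat.Prime 2) := ⟨Nat.prime_two⟩
  obtain ⟨k, hk⟩ := IsPGroup.iff_orderOf.1 T.2 ⟨a, ha⟩
  rw [← Subgroup.orderOf_coe] at hk
  exact h.sq_of_two_pow hk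

theorem comm_sylow (T : Sylow 2 G) {a b : G} (ha : a ∈ (T : Subgroup G)) (hb : b ∈ (T : Subgroup G)) :
    Commute a b := by
  have hinv : ∀ c ∈ (T : Subgroup G), c⁻¹ = c := fun c hc =>
    inv_eq_of_mul_eq_one_right (h.sq_sylow T c hc)
  calc a * b = (a * b)⁻¹ := (hinv _ (mul_mem ha hb)).symm
    _ = b * a := by rw [mul_inv_rev, hinv a ha, hinv b hb]

/-- Commuting involutions and elements of two-power order lie in a common Sylow 2-subgroup. -/
theorem commute_of_two_group {U : Subgroup G} (hU : IsPGroup 2 U) {a b : G} (ha : a ∈ U) (hb : b ∈ U) :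
    Commute a b ∧ a * a = 1 := by
  obtain ⟨T, hT⟩ := hU.exists_le_sylow
  exact ⟨h.comm_sylow T (hT ha) (hT hb), h.sq_sylow T a (hT ha)⟩

theorem card_centralizer_eq {a b : G} (hab : orderOf a = orderOf b) :
    Nat.card (Subgroup.centralizer ({a} : Set G)) = Nat.card (Subgroup.centralizer ({b} : Set G)) := by
  obtain ⟨σ, rfl⟩ := h.orbit a b hab
  exact (card_centralizer_map σ a).symm

theorem exists_commute_invol {y : G} (hy : orderOf y = p) : ∃ z : G, orderOf z = 2 ∧ Commute z y := by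
  obtain ⟨g, hg⟩ := h.two_p
  have hy0 : orderOf (g ^ 2) = p := by
    rw [orderOf_pow_of_dvd two_ne_zero (hg ▸ dvd_mul_right 2 p), hg, Nat.mul_div_cancel_left p two_pos]
  have hz0 : orderOf (g ^ p) = 2 := by
    rw [orderOf_pow_of_dvd h.hp.ne_zero (hg ▸ dvd_mul_left p 2), hg, Nat.mul_div_cancel 2 h.hp.pos]
  obtain ⟨σ, rfl⟩ := h.orbit _ _ (hy0.trans hy.symm)
  exact ⟨σ (g ^ p), by rw [MulEquiv.orderOf_eq, hz0], ((Commute.refl g).pow_pow p 2).map σ.toMonoidHom⟩

theorem dvd_card (q : ℕ) (hq : q = 2 ∨ q = p ∨ q = r) (hr' : r ∣ Nat.card G) : q ∣ Nat.card G := by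
  obtain ⟨g, hg⟩ := h.two_p
  have := orderOf_dvd_natCard g
  rw [hg] at this
  rcases hq with rfl | rfl | rfl
  · exact (dvd_mul_right 2 p).trans this
  · exact (dvd_mul_left q 2).trans this
  · exact hr'

/-- An element of order `q` is centralised by a Sylow `q`-subgroup, for `q = p` or `r`. -/
theorem exists_sylow_le {q : ℕ} [Fact q.Prime] {y : G} (hy : orderOf y = q) :
    ∃ P : Sylow q G, (P : Subgroup G) ≤ Subgroup.centralizer ({y} : Set G) ∧ y ∈ (P : Subgroup G) := by
  obtain ⟨P⟩ := (inferInstance : Nonempty (Sylow q G))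
  have hdvd : q ∣ Nat.card G := hy ▸ orderOf_dvd_natCard y
  haveI : Nontrivial (P : Subgroup G) := by
    refine Finite.one_lt_card_iff_nontrivial.1 ?_
    rw [P.card_eq_multiplicity]
    exact Nat.one_lt_pow (Nat.pos_iff_ne_zero.1
      ((Fact.out : q.Prime).factorization_pos_of_dvd Nat.card_pos.ne' hdvd)) (Fact.out : q.Prime).one_lt
  haveI := P.2.center_nontrivial
  obtain ⟨n, hn, hcard⟩ := (IsPGroup.to_subgroup P.2 (Subgroup.center (P : Subgroup G))).nontrivial_iff_card.1
    inferInstance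
  obtain ⟨⟨z, hzc⟩, hz⟩ := exists_prime_orderOf_dvd_card' (G := Subgroup.center (P : Subgroup G)) q
    (hcard ▸ dvd_pow_self q hn.ne')
  rw [← Subgroup.orderOf_coe, ← Subgroup.orderOf_coe] at hz
  obtain ⟨σ, rfl⟩ := h.orbit (z : G) y (hz.trans hy.symm)
  refine ⟨P.mapSurjective (f := σ.toMonoidHom) σ.surjective, ?_, ⟨z, z.2, rfl⟩⟩
  rintro _ ⟨a, ha, rfl⟩
  refine Subgroup.mem_centralizer_singleton_iff.2 ?_
  show σ a * σ z = σ z * σ a
  rw [← map_mul, ← map_mul]
  exact congrArg σ (congrArg Subtype.val (Subgroup.mem_center_iff.1 hzc ⟨a, ha⟩))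

/-- Burnside: no nontrivial element is centralised by a Sylow 2- and a Sylow `p`-subgroup. -/
theorem no_full {g : G} (hg : g ≠ 1) (T : Sylow 2 G) [Fact p.Prime] (P : Sylow p G)
    (hT : ∀ a ∈ (T : Subgroup G), Commute a g) (hP : ∀ a ∈ (P : Subgroup G), Commute a g) : False := by
  haveI := h.simple
  haveI : Fact (Nat.Prime 2) := ⟨Nat.prime_two⟩
  set C := Subgroup.centralizer ({g} : Set G)
  have hTC : (T : Subgroup G) ≤ C := fun a ha => Subgroup.mem_centralizer_singleton_iff.2 (hT a ha).eq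
  have hPC : (P : Subgroup G) ≤ C := fun a ha => Subgroup.mem_centralizer_singleton_iff.2 (hP a ha).eq
  have key : ∀ q : ℕ, q.Prime → q ∣ C.index → q = r := by
    intro q hq hdvd
    rcases h.prime_dvd_card hq (hdvd.trans C.index_dvd_card) with rfl | rfl | rfl
    · exact absurd (hdvd.trans (Subgroup.index_dvd_of_le hTC)) T.not_dvd_index
    · exact absurd (hdvd.trans (Subgroup.index_dvd_of_le hPC)) P.not_dvd_index
    · rfl
  obtain ⟨k, hk⟩ : ∃ k, C.index = r ^ k :=
    ⟨_, Nat.eq_prime_pow_of_unique_prime_dvd C.index_ne_zero_of_finite fun {d} hd hdd => key d hd hdd⟩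
  have hprime := CfsgLib.Char.burnside_class_prime_power r k h.hr g hg hk
  haveI := Fact.mk hprime
  haveI := isCyclic_of_prime_card (α := G) rfl
  exact h.nonab ⟨⟨fun a b => commutative_of_isCyclic a b⟩⟩

theorem four_le (T : Sylow 2 G) : 4 ≤ Nat.card (T : Subgroup G) := by
  by_contra hlt
  haveI := h.simple
  haveI : Fact (Nat.Prime 2) := ⟨Nat.prime_two⟩
  obtain ⟨n, hn⟩ := IsPGroup.iff_card.1 T.2
  have hn1 : n ≤ 1 := by
    by_contra h2
    exact hlt (hn ▸ (show 2 ^ 2 ≤ 2 ^ n from Nat.pow_le_pow_right two_pos (by omega)))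
  haveI : IsCyclic (T : Subgroup G) := by
    rcases Nat.le_one_iff_eq_zero_or_eq_one.1 hn1 with rfl | rfl
    · haveI := (Nat.card_eq_one_iff_unique.1 hn).1
      exact isCyclic_of_subsingleton
    · exact isCyclic_of_prime_card (hn.trans (pow_one 2))
  obtain ⟨W, hWn, hWo, hWi⟩ := exists_compl_of_cyclic_two T
  obtain ⟨g, hg⟩ := h.two_p
  have hdvd := orderOf_dvd_natCard g
  rcases IsSimpleGroup.eq_bot_or_eq_top_of_normal W hWn with rfl | rfl
  · rw [Subgroup.index_bot] at hWi
    rw [hWi, hg, hn] at hdvd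
    have := Nat.le_of_dvd (by positivity) hdvd
    have := h.three_le
    have := Nat.pow_le_pow_right two_pos hn1
    omega
  · rw [Subgroup.card_top, Nat.odd_iff] at hWo
    rw [hg] at hdvd
    have : 2 ∣ Nat.card G := (dvd_mul_right 2 p).trans hdvd
    omega

theorem isSolvable_of_not_dvd {X : Subgroup G} (hX : ¬ r ∣ Nat.card X) : Group.IsSolvable X := by
  obtain ⟨a, b, hab⟩ : ∃ a b, Nat.card X = 2 ^ a * p ^ b := by
    obtain ⟨a, m, hm, he⟩ := Nat.exists_eq_pow_mul_and_not_dvd (Nat.card_pos (α := X)).ne' 2 (by norm_num)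
    refine ⟨a, _, he.trans (congrArg _ (Nat.eq_prime_pow_of_unique_prime_dvd (p := p) (n := m)
      (fun e => hm (e ▸ dvd_zero 2)) fun {d} hd hdd => ?_))⟩
    rcases h.prime_dvd_card hd ((hdd.trans (he ▸ dvd_mul_left m _)).trans
      X.card_subgroup_dvd_card) with rfl | rfl | rfl
    · exact absurd hdd hm
    · rfl
    · exact absurd (hdd.trans (he ▸ dvd_mul_left m _)) hX
  exact CfsgLib.Char.burnside_pq 2 p Nat.prime_two h.hp a b X hab

theorem not_r_dvd_centralizer {t : G} (ht : orderOf t = 2) :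
    ¬ r ∣ Nat.card (Subgroup.centralizer ({t} : Set G)) := by
  intro hd
  haveI := Fact.mk h.hr
  obtain ⟨⟨x, hxC⟩, hx⟩ := exists_prime_orderOf_dvd_card' r hd
  rw [← Subgroup.orderOf_coe] at hx
  exact h.not_commute_r ht hx (Subgroup.mem_centralizer_singleton_iff.1 hxC).symm

end Spec

end CfsgLib.FiveOrbit
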