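import Cfsg.Agent.Lib.FiveOrbit.Base
import Cfsg.Agent.Lib.Recog.SymEight.Tools

/-!
# Involution centralisers with a normal Sylow 2-subgroup are impossible

Then `M = N(T)` is strongly embedded and elements of order `p` are not inverted, so two involutions
fixing different points have product of order `r`.  Counting these pairs gives a contradiction at
the prime `r`.
-/

set_option autoImplicit false
set_option linter.unusedSectionVars false
set_option linter.style.haveILetI false

namespace CfsgLib.FiveOrbit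

open Subgroup CfsgLib.Invol CfsgLib.EqOrder

variable {G : Type*} [Group G] [Finite G] {p r : ℕ}

namespace Spec

variable (h : Spec G p r)
include h

/-- The hypothesis of the case. -/
def CaseI (_h : Spec G p r) : Prop :=
  ∀ T : Sylow 2 G, ∀ t ∈ (T : Subgroup G), t ≠ 1 → ∀ c : G, Commute c t → c ∈ NH T

theorem exists_sylow_mem {a b : G} (hc : Commute a b) (ha : a * a = 1) (hb : b * b = 1) :
    ∃ T : Sylow 2 G, a ∈ (T : Subgroup G) ∧ b ∈ (T : Subgroup G) := by
  haveI : Fact (Nat.Prime 2) := ⟨Nat.prime_two⟩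
  have hp : ∀ x : G, x * x = 1 → IsPGroup 2 (zpowers x) := fun x hx y => ⟨1, Subtype.ext (by
    obtain ⟨i, hi⟩ := y.2
    rw [SubgroupClass.coe_pow, pow_one, ← hi, pow_two]
    show x ^ i * x ^ i = 1
    rw [← (Commute.refl x).mul_zpow, hx, one_zpow])⟩
  have hle : zpowers a ≤ normalizer ((zpowers b : Subgroup G) : Set G) :=
    le_trans (zpowers_le.2 (mem_centralizer_iff.2 fun x hx => by
      obtain ⟨i, rfl⟩ := hx
      exact (hc.zpow_right i).symm.eq)) (Subgroup.centralizer_le_normalizer _)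
  obtain ⟨T, hT⟩ := ((hp a ha).to_sup_of_normal_right' (hp b hb) hle).exists_le_sylow
  exact ⟨T, hT (Subgroup.mem_sup_left (mem_zpowers a)), hT (Subgroup.mem_sup_right (mem_zpowers b))⟩

/-- An element of order `p` is not inverted by an involution. -/
theorem no_inverted_p (hI : h.CaseI) {u y : G} (hu : orderOf u = 2) (hy : orderOf y = p)
    (hinv : u * y * u⁻¹ = y⁻¹) : False := by
  haveI : Fact (Nat.Prime 2) := ⟨Nat.prime_two⟩
  set N := Subgroup.normalizer ((zpowers y : Subgroup G) : Set G)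
  set C := Subgroup.centralizer ({y} : Set G)
  have huN : u ∈ N := by
    rw [Subgroup.mem_normalizer_iff]
    have key : ∀ a ∈ zpowers y, u * a * u⁻¹ ∈ zpowers y := by
      rintro _ ⟨i, rfl⟩
      show u * y ^ i * u⁻¹ ∈ zpowers y
      rw [← conj_zpow, hinv]
      exact zpow_mem (inv_mem (mem_zpowers y)) i
    refine fun a => ⟨key a, fun ha => ?_⟩
    have := key _ ha
    rwa [invol_inv hu, show u * (u * a * u) * u = (u * u) * a * (u * u) by group, invol_mul_self hu,
      one_mul, mul_one] at this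
  have hCN : C ≤ N := by
    intro c hc
    have hc' := Subgroup.mem_centralizer_singleton_iff.1 hc
    exact Subgroup.centralizer_le_normalizer _ (mem_centralizer_iff.2 fun a ha => by
      obtain ⟨i, rfl⟩ := ha
      exact (Commute.zpow_right (hc' : Commute c y) i).symm.eq)
  haveI hCn : (C.subgroupOf N).Normal := by
    refine ⟨fun c hc g => Subgroup.mem_subgroupOf.2 (Subgroup.mem_centralizer_singleton_iff.2 ?_)⟩
    have hc' : Commute (c : G) y := Subgroup.mem_centralizer_singleton_iff.1 (Subgroup.mem_subgroupOf.1 hc)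
    obtain ⟨i, hi⟩ := (Subgroup.mem_normalizer_iff.1 (inv_mem g.2) y).1 (mem_zpowers y)
    have hi' : y ^ i = (g : G)⁻¹ * y * (g : G) := by simpa [mul_assoc] using hi
    have hc2 : Commute (c : G) ((g : G)⁻¹ * y * (g : G)) := hi' ▸ hc'.zpow_right i
    simp only [Subgroup.coe_mul, Subgroup.coe_inv]
    calc (g : G) * c * (g : G)⁻¹ * y
        = g * ((c : G) * ((g : G)⁻¹ * y * g)) * (g : G)⁻¹ := by group
      _ = g * (((g : G)⁻¹ * y * g) * c) * (g : G)⁻¹ := by rw [hc2.eq]
      _ = _ := by group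
  obtain ⟨U, hU⟩ := (isPGroup_zpowers_of_invol (x := (⟨u, huN⟩ : N))
    (by rw [← Subgroup.orderOf_coe]; exact hu)).exists_le_sylow
  obtain ⟨z₀, hz₀, hz₀y⟩ := h.exists_commute_invol hy
  -- `U` meets the centraliser of `y`
  obtain ⟨z, hzU, hzC, hz1⟩ : ∃ z : N, z ∈ (U : Subgroup N) ∧ z ∈ C.subgroupOf N ∧ z ≠ 1 := by
    by_contra hne
    push Not at hne
    have hdvd : Nat.card (U : Subgroup N) ∣ (C.subgroupOf N).index := by
      refine Subgroup.card_dvd_of_injective ((QuotientGroup.mk' (C.subgroupOf N)).comp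
        (U : Subgroup N).subtype) ?_
      rw [injective_iff_map_eq_one]
      intro a ha
      exact Subtype.ext (hne a a.2 ((QuotientGroup.eq_one_iff _).1 ha))
    have hev : 2 ∣ Nat.card (C.subgroupOf N) := by
      rw [Nat.card_congr (subgroupOfEquivOfLe hCN).toEquiv, ← hz₀]
      exact Subgroup.orderOf_dvd_natCard C (Subgroup.mem_centralizer_singleton_iff.2 hz₀y.eq)
    have h1 : 2 * Nat.card (U : Subgroup N) ∣ Nat.card N :=
      (C.subgroupOf N).card_mul_index ▸ mul_dvd_mul hev hdvd
    have h2 := (C.subgroupOf N).card_mul_index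
    refine U.not_dvd_index ?_
    rw [← (U : Subgroup N).card_mul_index, mul_comm (Nat.card (U : Subgroup N))] at h1
    exact Nat.dvd_of_mul_dvd_mul_right Nat.card_pos h1
  have hUmem : ∀ a : N, a ∈ (U : Subgroup N) → (a : G) ∈ (U : Subgroup N).map N.subtype :=
    fun a ha => ⟨a, ha, rfl⟩
  obtain ⟨hcom, hzz⟩ := h.commute_of_two_group (U.2.map N.subtype) (hUmem z hzU)
    (hUmem ⟨u, huN⟩ (hU (mem_zpowers _)))
  obtain ⟨T, hzT, huT⟩ := h.exists_sylow_mem hcom hzz (invol_mul_self hu)
  have hyN : y ∈ NH T := hI T z hzT (fun e => hz1 (Subtype.ext e)) y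
    (Subgroup.mem_centralizer_singleton_iff.1 (Subgroup.mem_subgroupOf.1 hzC)).symm
  have hmem : u * y * u⁻¹ * y⁻¹ ∈ (T : Subgroup G) := by
    have h1 : y * u⁻¹ * y⁻¹ ∈ (T : Subgroup G) := (Subgroup.mem_normalizer_iff.1 hyN _).1 (inv_mem huT)
    have := mul_mem huT h1
    simpa [mul_assoc] using this
  rw [hinv] at hmem
  have hsq := h.sq_sylow T _ hmem
  have hd : orderOf y ∣ 4 := by
    refine orderOf_dvd_of_pow_eq_one ?_
    calc y ^ 4 = ((y⁻¹ * y⁻¹) * (y⁻¹ * y⁻¹))⁻¹ := by group
      _ = 1 := by rw [hsq, inv_one]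
  rw [hy] at hd
  have := (Nat.prime_dvd_prime_iff_eq h.hp Nat.prime_two).1
    (h.hp.dvd_of_dvd_pow (show p ∣ 2 ^ 2 from hd))
  exact h.ne_two.1 this

theorem stronglyEmbedded (hI : h.CaseI) (T : Sylow 2 G) : Cfsg.IsStronglyEmbedded (NH T) := by
  haveI := h.simple
  have hT4 := h.four_le T
  obtain ⟨a, ha, ha1⟩ : ∃ a ∈ (T : Subgroup G), a ≠ 1 := by
    by_contra hne
    push Not at hne
    rw [(Subgroup.eq_bot_iff_forall _).2 hne, Subgroup.card_bot] at hT4
    omega
  refine ⟨fun e => ?_, even_card_of_invol_mem (invol_of_mul_self (h.sq_sylow T a ha) ha1)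
    (CAHyp.T_le_NH ha), fun g hg => ?_⟩
  · rcases IsSimpleGroup.eq_bot_or_eq_top_of_normal _ (Subgroup.normalizer_eq_top_iff.1 e) with e' | e'
    · rw [e', Subgroup.card_bot] at hT4; omega
    · exact h.nonab ⟨⟨fun x y => (h.comm_sylow T (e' ▸ mem_top x) (e' ▸ mem_top y)).eq⟩⟩
  · by_contra hodd
    rw [Nat.not_odd_iff_even] at hodd
    obtain ⟨i, ⟨hiH, k, hk, hki⟩, hi⟩ := exists_invol_mem hodd
    have hki' : g * k * g⁻¹ = i := hki
    have hk2 : orderOf k = 2 := by rw [← orderOf_conj_eq g k, hki', hi]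
    have hkT := CAHyp.mem_T_of_sq hk (invol_mul_self hk2)
    have hiT := CAHyp.mem_T_of_sq hiH (invol_mul_self hi)
    refine hg (Subgroup.mem_normalizer_iff.2 ?_)
    intro b₀
    have hfwd : ∀ b ∈ (T : Subgroup G), g * b * g⁻¹ ∈ (T : Subgroup G) := fun b hb => by
      have hc : Commute (g * b * g⁻¹) i := hki' ▸ (Commute.conj_iff g).2 (h.comm_sylow T hb hkT)
      refine CAHyp.mem_T_of_sq (hI T i hiT (invol_ne_one hi) _ hc) ?_
      rw [conj_mul, h.sq_sylow T b hb, mul_one, mul_inv_cancel]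
    refine ⟨hfwd b₀, fun hb => ?_⟩
    let f : ↥(T : Subgroup G) → ↥(T : Subgroup G) := fun b => ⟨g * (b : G) * g⁻¹, hfwd b b.2⟩
    have hf : Function.Injective f := fun a b e =>
      Subtype.ext (by simpa [f] using congrArg Subtype.val e)
    obtain ⟨c, hc⟩ := Finite.injective_iff_surjective.1 hf ⟨_, hb⟩
    have hcb : g * (c : G) * g⁻¹ = g * b₀ * g⁻¹ := congrArg Subtype.val hc
    have : (c : G) = b₀ := by simpa using hcb
    rw [← this]; exact c.2

/-- The case is impossible. -/
theorem false_of_caseI (hI : h.CaseI) : False := by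
  classical
  haveI : Fact (Nat.Prime 2) := ⟨Nat.prime_two⟩
  haveI := Fact.mk h.hr
  obtain ⟨T⟩ := (inferInstance : Nonempty (Sylow 2 G))
  set M := NH T with hM
  have hSE := h.stronglyEmbedded hI T
  have hTsq := h.sq_sylow T
  have hMinv : ∀ {t : G}, t ∈ M → orderOf t = 2 → t ∈ (T : Subgroup G) := fun ht ho =>
    CAHyp.mem_T_of_sq ht (invol_mul_self ho)
  -- products of involutions with different fixed points have order `r`
  have hprod : ∀ {u v : G}, orderOf u = 2 → orderOf v = 2 → ∀ {α : G ⧸ M}, u • α = α → v • α ≠ α →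
      orderOf (u * v) = r := by
    intro u v hu hv α huα hvα
    have hodd : Odd (orderOf (u * v)) := Nat.not_even_iff_odd.1 fun heven => by
      obtain ⟨z, hz, hzu, hzv⟩ := exists_commute_both hu hv heven
      exact hvα (se_fix_of_commute hSE hz hzv.symm (se_fix_of_commute hSE hu hzu huα))
    have hinv : u * (u * v) * u⁻¹ = (u * v)⁻¹ := by
      rw [mul_inv_rev, invol_inv hu, invol_inv hv, ← mul_assoc u u, invol_mul_self hu, one_mul]
    have hne : u * v ≠ 1 := fun e => hvα (by
      rwa [← eq_inv_of_mul_eq_one_right e |>.trans (invol_inv hu)] at huα)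
    exact (h.order_of_odd hodd hne).resolve_left fun e => h.no_inverted_p hI hu e hinv
  obtain ⟨v₀, hv₀M, hv₀⟩ := se_exists_invol_notMem hSE
  obtain ⟨u₀, hu₀M, hu₀⟩ := se_exists_invol hSE
  have hfix1 : ∀ {g : G}, g • ((1 : G) : G ⧸ M) = (1 : G) ↔ g ∈ M := fun {g} => by
    rw [fix_coset_iff]; simp
  have hreal : ∀ x : G, orderOf x = r → ∃ u : G, orderOf u = 2 ∧ u * x * u⁻¹ = x⁻¹ := by
    intro x hx
    have h1 := hprod hu₀ hv₀ (hfix1.2 hu₀M) fun e => hv₀M (hfix1.1 e)
    obtain ⟨σ, rfl⟩ := h.orbit _ x (h1.trans hx.symm)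
    refine ⟨σ u₀, by rw [MulEquiv.orderOf_eq, hu₀], ?_⟩
    rw [← map_inv, ← map_inv, ← map_mul, ← map_mul]
    congr 1
    rw [mul_inv_rev, invol_inv hu₀, invol_inv hv₀, ← mul_assoc u₀ u₀, invol_mul_self hu₀, one_mul]
  -- the centralisers of elements of order `r`
  set R : G → Subgroup G := fun x => Subgroup.centralizer ({x} : Set G) with hR
  have hRsyl : ∀ x : G, orderOf x = r → ∃ S : Sylow r G, (S : Subgroup G) = R x := by
    intro x hx
    obtain ⟨S, hS, -⟩ := h.exists_sylow_le hx
    refine ⟨S, (S.is_maximal' ?_ hS).symm⟩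
    have hnd : ∀ q : ℕ, q.Prime → q ∣ Nat.card (R x) → q = r := by
      intro q hq hdvd
      haveI := Fact.mk hq
      obtain ⟨⟨c, hc⟩, hco⟩ := exists_prime_orderOf_dvd_card' q hdvd
      rw [← Subgroup.orderOf_coe] at hco
      have hcx : Commute c x := Subgroup.mem_centralizer_singleton_iff.1 hc
      rcases h.prime_cases hq hco.symm.dvd with rfl | rfl | rfl
      · exact (h.not_commute_r hco hx hcx).elim
      · exact (h.not_commute_pr hco hx hcx).elim
      · rfl
    exact IsPGroup.of_card (Nat.eq_prime_pow_of_unique_prime_dvd Nat.card_pos.ne'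
      fun {d} hd hdd => hnd d hd hdd)
  have hRord : ∀ {x c : G}, orderOf x = r → c ∈ R x → c ≠ 1 → orderOf c = r := by
    intro x c hx hc hc1
    obtain ⟨S, hS⟩ := hRsyl x hx
    obtain ⟨k, hk⟩ := IsPGroup.iff_orderOf.1 S.2 ⟨c, hS ▸ hc⟩
    rw [← Subgroup.orderOf_coe] at hk
    have hk0 : k ≠ 0 := fun e => hc1 (orderOf_eq_one_iff.1 (by rw [show orderOf c = r ^ k from hk, e, pow_zero]))
    exact (h.order_of_odd (hk ▸ h.r_odd.pow) hc1).resolve_left fun e => h.ne
      ((Nat.prime_dvd_prime_iff_eq h.hr h.hp).1 (e ▸ hk ▸ dvd_pow_self r hk0)).symm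
  -- an inverting involution inverts the whole centraliser, which is therefore abelian
  have hRinv : ∀ {u x : G}, orderOf u = 2 → orderOf x = r → u * x * u⁻¹ = x⁻¹ →
      ∀ c ∈ R x, u * c * u = c⁻¹ := by
    intro u x hu hx hinv
    refine CfsgLib.Recog.SymEight.inverts_of_no_fixed (invol_mul_self hu) (fun c hc => ?_)
      fun c hc huc => ?_
    · have hcx : Commute c x := Subgroup.mem_centralizer_singleton_iff.1 hc
      refine Subgroup.mem_centralizer_singleton_iff.2 ?_
      have : Commute (u * c * u⁻¹) (u * x⁻¹ * u⁻¹) := (Commute.conj_iff u).2 hcx.inv_right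
      rw [← conj_inv, hinv, inv_inv, invol_inv hu] at this
      exact this.eq
    · by_contra hc1
      exact h.not_commute_r hu (hRord hx hc hc1) huc
  have hRab : ∀ {x : G}, orderOf x = r → ∀ a ∈ R x, ∀ b ∈ R x, Commute a b := by
    intro x hx a ha b hb
    obtain ⟨u, hu, hinv⟩ := hreal x hx
    have e := hRinv hu hx hinv _ (mul_mem ha hb)
    rw [show u * (a * b) * u = (u * a * u) * (u * b * u) by
      rw [show (u * a * u) * (u * b * u) = u * a * (u * u) * b * u by group, invol_mul_self hu]; group,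
      hRinv hu hx hinv a ha, hRinv hu hx hinv b hb, ← mul_inv_rev] at e
    exact (inv_injective e).symm
  have hReq : ∀ {x c : G}, orderOf x = r → c ∈ R x → c ≠ 1 → R c = R x := by
    intro x c hx hc hc1
    obtain ⟨S, hS⟩ := hRsyl x hx
    obtain ⟨S', hS'⟩ := hRsyl c (hRord hx hc hc1)
    refine (Subgroup.eq_of_le_of_card_ge ?_ ?_).symm
    · exact fun a ha => Subgroup.mem_centralizer_singleton_iff.2 (hRab hx a ha c hc).eq
    · rw [← hS, ← hS', S.card_eq_multiplicity, S'.card_eq_multiplicity]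
  haveI := Fintype.ofFinite G
  haveI := Fintype.ofFinite (G ⧸ M)
  obtain ⟨S₀⟩ := (inferInstance : Nonempty (Sylow r G))
  set b := Nat.card (S₀ : Subgroup G) with hb
  -- `r` divides `|G|`
  have hrG : r ∣ Nat.card G := by
    have h1 := hprod hu₀ hv₀ (hfix1.2 hu₀M) fun e => hv₀M (hfix1.1 e)
    exact h1 ▸ orderOf_dvd_natCard _
  -- the pairs, counted by their products
  set Nr := Nat.card {x : G // orderOf x = r}
  set P := {q : G × G // orderOf q.1 = 2 ∧ orderOf q.2 = 2 ∧ orderOf (q.1 * q.2) = r} with hP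
  have hP1 : Nat.card P = Nr * b := by
    let f : P → {x : G // orderOf x = r} := fun q => ⟨q.1.1 * q.1.2, q.2.2.2⟩
    have hfib : ∀ x, Nat.card {q : P // f q = x} = b := by
      rintro ⟨x, hx⟩
      obtain ⟨S, hS⟩ := hRsyl x hx
      obtain ⟨u, hu, hinv⟩ := hreal x hx
      rw [hb, show Nat.card (S₀ : Subgroup G) = Nat.card (R x) by
        rw [← hS, S.card_eq_multiplicity, S₀.card_eq_multiplicity]]
      have hinvR := hRinv hu hx hinv
      have hu2 : u * u = 1 := invol_mul_self hu
      have huc : ∀ c ∈ R x, orderOf (u * c) = 2 := by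
        intro c hc
        refine invol_of_mul_self ?_ fun e => ?_
        · rw [show u * c * (u * c) = (u * c * u) * c by group, hinvR c hc, inv_mul_cancel]
        · have huR : u ∈ R x := by
            rw [show u = c⁻¹ from eq_inv_of_mul_eq_one_left e]; exact inv_mem hc
          exact h.not_commute_r hu hx (Subgroup.mem_centralizer_singleton_iff.1 huR)
      have hconjx : ∀ c ∈ R x, (u * c) * x * (u * c)⁻¹ = x⁻¹ := fun c hc => by
        rw [show (u * c) * x * (u * c)⁻¹ = u * (c * x * c⁻¹) * u⁻¹ by group,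
          (Subgroup.mem_centralizer_singleton_iff.1 hc), mul_inv_cancel_right, hinv]
      refine Nat.card_congr
        { toFun := fun q => ⟨u * q.1.1.1, ?_⟩
          invFun := fun c => ⟨⟨(u * (c : G), (u * (c : G))⁻¹ * x), huc c c.2, ?_, ?_⟩, ?_⟩
          left_inv := fun q => ?_
          right_inv := fun c => Subtype.ext (by simp [← mul_assoc, hu2]) }
      · obtain ⟨⟨⟨a, b'⟩, ha, hb', -⟩, hq⟩ := q
        have hq' : a * b' = x := congrArg Subtype.val hq
        refine Subgroup.mem_centralizer_singleton_iff.2 ?_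
        show u * a * x = x * (u * a)
        have hax : a * x = x⁻¹ * a := by
          rw [← hq', mul_inv_rev, invol_inv ha, invol_inv hb', ← mul_assoc, invol_mul_self ha,
            one_mul, mul_assoc, invol_mul_self ha, mul_one]
        have hux : u * x⁻¹ = x * u := by
          rw [← mul_inv_eq_iff_eq_mul, ← conj_inv, hinv, inv_inv]
        rw [mul_assoc, hax, ← mul_assoc, hux, mul_assoc]
      · show orderOf ((u * (c : G))⁻¹ * x) = 2
        have hw := huc c c.2
        rw [invol_inv hw]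
        refine invol_of_mul_self ?_ fun e => ?_
        · have := hconjx c c.2
          rw [invol_inv hw] at this
          rw [show u * (c : G) * x * (u * (c : G) * x) = (u * c * x * (u * c)) * x by group, this,
            inv_mul_cancel]
        · rw [eq_inv_of_mul_eq_one_left e, orderOf_inv, hx] at hw
          exact h.ne_two.2 hw
      · show orderOf (u * (c : G) * ((u * (c : G))⁻¹ * x)) = r
        rw [mul_inv_cancel_left, hx]
      · exact Subtype.ext (mul_inv_cancel_left _ x)
      · obtain ⟨⟨⟨a, b'⟩, ha, hb', hab⟩, hq⟩ := q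
        have hq' : a * b' = x := congrArg Subtype.val hq
        refine Subtype.ext (Subtype.ext (Prod.ext ?_ ?_))
        · show u * (u * a) = a
          rw [← mul_assoc, hu2, one_mul]
        · show (u * (u * a))⁻¹ * x = b'
          rw [← mul_assoc, hu2, one_mul, ← hq', inv_mul_cancel_left]
    rw [← Nat.card_congr (Equiv.sigmaFiberEquiv f), Nat.card_sigma,
      Finset.sum_congr rfl fun x _ => hfib x, Finset.sum_const, Finset.card_univ, smul_eq_mul,
      ← Nat.card_eq_fintype_card]
  -- the pairs, counted by their fixed points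
  set m := Nat.card {t : G // orderOf t = 2 ∧ t ∈ M} with hm
  set n := Nat.card (G ⧸ M) with hn
  have hP2 : Nat.card P = n * (n - 1) * (m * m) := by
    let Q := Σ q : {q : (G ⧸ M) × (G ⧸ M) // q.1 ≠ q.2},
      {t : G // orderOf t = 2 ∧ t • q.1.1 = q.1.1} × {t : G // orderOf t = 2 ∧ t • q.1.2 = q.1.2}
    let g : Q → P := fun q => ⟨(q.2.1.1, q.2.2.1), q.2.1.2.1, q.2.2.2.1,
      hprod q.2.1.2.1 q.2.2.2.1 q.2.1.2.2 fun e => q.1.2 (se_fix_eq hSE q.2.2.2.1 e q.2.2.2.2)⟩
    have hg : Function.Bijective g := by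
      constructor
      · rintro ⟨⟨⟨α, β⟩, hαβ⟩, ⟨a, ha1, ha2⟩, ⟨b', hb1, hb2⟩⟩
          ⟨⟨⟨α', β'⟩, hαβ'⟩, ⟨a', ha1', ha2'⟩, ⟨b'', hb1', hb2'⟩⟩ e
        simp only [g, Subtype.mk.injEq, Prod.mk.injEq] at e
        obtain ⟨rfl, rfl⟩ := e
        obtain rfl : α = α' := se_fix_eq hSE ha1 ha2 ha2'
        obtain rfl : β = β' := se_fix_eq hSE hb1 hb2 hb2'
        rfl
      · rintro ⟨⟨a, b'⟩, ha, hb', hab⟩
        obtain ⟨α, hα, -⟩ := se_existsUnique_fix hSE ha
        obtain ⟨β, hβ, -⟩ := se_existsUnique_fix hSE hb'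
        refine ⟨⟨⟨(α, β), fun e => ?_⟩, ⟨a, ha, hα⟩, ⟨b', hb', hβ⟩⟩, rfl⟩
        obtain rfl : α = β := e
        obtain ⟨γ, rfl⟩ := QuotientGroup.mk_surjective α
        rw [fix_coset_iff] at hα hβ
        have hc := h.comm_sylow T (hMinv hα (by rw [orderOf_conj_inv_eq, ha]))
          (hMinv hβ (by rw [orderOf_conj_inv_eq, hb']))
        have hc' : Commute a b' := by
          have := (Commute.conj_iff γ).2 hc
          simpa [mul_assoc] using this
        have : orderOf (a * b') ∣ 2 := orderOf_dvd_of_pow_eq_one (by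
          rw [hc'.mul_pow, pow_two, pow_two, invol_mul_self ha, invol_mul_self hb', one_mul])
        rw [show orderOf (a * b') = r from hab] at this
        exact h.ne_two.2 ((Nat.prime_dvd_prime_iff_eq h.hr Nat.prime_two).1 this)
    have hoff : Nat.card {q : (G ⧸ M) × (G ⧸ M) // q.1 ≠ q.2} = n * (n - 1) := by
      rw [hn, Nat.card_eq_fintype_card, Nat.card_eq_fintype_card, Fintype.card_subtype]
      rw [show (Finset.univ.filter fun q : (G ⧸ M) × (G ⧸ M) => q.1 ≠ q.2) =
        (Finset.univ : Finset (G ⧸ M)).offDiag from by ext; simp [Finset.mem_offDiag]]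
      rw [Finset.offDiag_card, Finset.card_univ, Nat.mul_sub, mul_one]
    rw [← Nat.card_congr (Equiv.ofBijective g hg), Nat.card_sigma,
      Finset.sum_congr rfl fun q _ => (Nat.card_prod _ _).trans
        (by rw [se_card_invol_fix hSE, se_card_invol_fix hSE] :
          Nat.card {t : G // orderOf t = 2 ∧ t • q.1.1 = q.1.1} *
            Nat.card {t : G // orderOf t = 2 ∧ t • q.1.2 = q.1.2} = m * m),
      Finset.sum_const, Finset.card_univ, smul_eq_mul, ← Nat.card_eq_fintype_card, hoff]
  -- the centralisers partition the elements of order `r`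
  have hNr : Nr = Nat.card (Sylow r G) * (b - 1) := by
    let g : (Σ S : Sylow r G, {c : (S : Subgroup G) // c ≠ 1}) → {x : G // orderOf x = r} := fun q =>
      ⟨q.2.1, by
        obtain ⟨k, hk⟩ := IsPGroup.iff_orderOf.1 q.1.2 q.2.1
        rw [← Subgroup.orderOf_coe] at hk
        have hc1 : ((q.2.1 : (q.1 : Subgroup G)) : G) ≠ 1 := fun e => q.2.2 (Subtype.ext e)
        have hk0 : k ≠ 0 := fun e => hc1 (orderOf_eq_one_iff.1 (by rw [hk, e, pow_zero]))
        exact (h.order_of_odd (hk ▸ h.r_odd.pow) hc1).resolve_left fun e => h.ne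
          ((Nat.prime_dvd_prime_iff_eq h.hr h.hp).1 (e ▸ hk ▸ dvd_pow_self r hk0)).symm⟩
    have hS : ∀ (S : Sylow r G) (c : G), c ∈ (S : Subgroup G) → orderOf c = r → (S : Subgroup G) = R c := by
      intro S c hc hco
      -- compare with the centraliser of a central element
      haveI : Nontrivial (S : Subgroup G) :=
        ⟨⟨c, hc⟩, 1, fun e => by
          rw [show c = 1 from congrArg Subtype.val e, orderOf_one] at hco
          exact h.hr.one_lt.ne hco⟩
      haveI := S.2.center_nontrivial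
      obtain ⟨⟨⟨z, hzS⟩, hzc⟩, hz1⟩ := exists_ne (1 : Subgroup.center (S : Subgroup G))
      have hz1' : z ≠ 1 := fun e => hz1 (Subtype.ext (Subtype.ext e))
      have hzo : orderOf z = r := by
        obtain ⟨k, hk⟩ := IsPGroup.iff_orderOf.1 S.2 ⟨z, hzS⟩
        rw [← Subgroup.orderOf_coe] at hk
        have hk0 : k ≠ 0 := fun e => hz1' (orderOf_eq_one_iff.1 (by rw [show orderOf z = r ^ k from hk, e, pow_zero]))
        exact (h.order_of_odd (show Odd (orderOf z) from hk ▸ h.r_odd.pow) hz1').resolve_left fun e => h.ne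
          ((Nat.prime_dvd_prime_iff_eq h.hr h.hp).1 (e ▸ hk ▸ dvd_pow_self r hk0)).symm
      obtain ⟨S', hS'⟩ := hRsyl z hzo
      have hle : (S : Subgroup G) ≤ R z := fun a ha => Subgroup.mem_centralizer_singleton_iff.2
        (congrArg Subtype.val (Subgroup.mem_center_iff.1 hzc ⟨a, ha⟩))
      have heq : (S : Subgroup G) = R z := Subgroup.eq_of_le_of_card_ge hle (by
        rw [← hS', S.card_eq_multiplicity, S'.card_eq_multiplicity])
      have hc1 : c ≠ 1 := fun e => by rw [e, orderOf_one] at hco; exact h.hr.one_lt.ne hco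
      rw [heq, hReq hzo (heq.le hc) hc1]
    have hg : Function.Bijective g := by
      constructor
      · rintro ⟨S, ⟨c, hc⟩, hc1⟩ ⟨S', ⟨c', hc'⟩, hc1'⟩ e
        have e' : c = c' := congrArg Subtype.val e
        subst e'
        have hco : orderOf c = r := (g ⟨S, ⟨c, hc⟩, hc1⟩).2
        obtain rfl : S = S' := Sylow.ext ((hS S c hc hco).trans (hS S' c hc' hco).symm)
        rfl
      · rintro ⟨x, hx⟩
        obtain ⟨S, -, hxS⟩ := h.exists_sylow_le hx
        exact ⟨⟨S, ⟨x, hxS⟩, fun e => by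
          rw [show x = 1 from congrArg Subtype.val e, orderOf_one] at hx
          exact h.hr.one_lt.ne hx⟩, rfl⟩
    haveI := Fintype.ofFinite (Sylow r G)
    show Nat.card {x : G // orderOf x = r} = _
    rw [← Nat.card_congr (Equiv.ofBijective g hg), Nat.card_sigma]
    have hc : ∀ S : Sylow r G, Nat.card {c : (S : Subgroup G) // c ≠ 1} = b - 1 := fun S => by
      haveI := Fintype.ofFinite (S : Subgroup G)
      rw [Nat.card_eq_fintype_card, Fintype.card_subtype_compl, Fintype.card_subtype_eq,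
        ← Nat.card_eq_fintype_card, hb, S.card_eq_multiplicity, S₀.card_eq_multiplicity]
    rw [Finset.sum_congr rfl fun S _ => hc S, Finset.sum_const, Finset.card_univ, smul_eq_mul,
      ← Nat.card_eq_fintype_card]
  -- the stabiliser of an involution in `M` has order prime to `r`
  have hMm : Nat.card M = m * Nat.card (Subgroup.centralizer ({u₀} : Set G)) := by
    have hu₀T := hMinv hu₀M hu₀
    let f : M → {t : G // orderOf t = 2 ∧ t ∈ M} := fun d =>
      ⟨(d : G) * u₀ * (d : G)⁻¹, by rw [orderOf_conj_eq, hu₀], mul_mem (mul_mem d.2 hu₀M) (inv_mem d.2)⟩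
    have hfib : ∀ t, Nat.card {d : M // f d = t} = Nat.card (Subgroup.centralizer ({u₀} : Set G)) := by
      rintro ⟨t, ht, htM⟩
      obtain ⟨g, hg⟩ := isConj_iff.1 (se_isConj hSE hu₀ ht)
      have hgM : g ∈ M := se_mem_of_conj hSE hu₀ hu₀M (hg ▸ htM)
      refine Nat.card_congr
        { toFun := fun d => ⟨g⁻¹ * (d.1 : G), ?_⟩
          invFun := fun c => ⟨⟨g * (c : G), mul_mem hgM (se_centralizer_le hSE hu₀ hu₀M c.2)⟩, ?_⟩
          left_inv := fun d => Subtype.ext (Subtype.ext (mul_inv_cancel_left g _))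
          right_inv := fun c => Subtype.ext (inv_mul_cancel_left g _) }
      · have e : (d.1 : G) * u₀ * (d.1 : G)⁻¹ = t := congrArg Subtype.val d.2
        refine Subgroup.mem_centralizer_singleton_iff.2 ?_
        calc g⁻¹ * (d.1 : G) * u₀ = g⁻¹ * ((d.1 : G) * u₀ * (d.1 : G)⁻¹) * d.1 := by group
          _ = g⁻¹ * (g * u₀ * g⁻¹) * d.1 := by rw [e, hg]
          _ = u₀ * (g⁻¹ * (d.1 : G)) := by group
      · refine Subtype.ext ?_
        show g * (c : G) * u₀ * (g * (c : G))⁻¹ = t
        have hc := Subgroup.mem_centralizer_singleton_iff.1 c.2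
        calc g * (c : G) * u₀ * (g * (c : G))⁻¹ = g * ((c : G) * u₀ * (c : G)⁻¹) * g⁻¹ := by group
          _ = t := by rw [hc, mul_inv_cancel_right, hg]
    rw [← Nat.card_congr (Equiv.sigmaFiberEquiv f), Nat.card_sigma,
      Finset.sum_congr rfl fun t _ => hfib t, Finset.sum_const, Finset.card_univ, smul_eq_mul,
      ← Nat.card_eq_fintype_card]
  -- `r` divides `|M|`: two points are swapped by at least two involutions
  have hrM : r ∣ Nat.card M := by
    have hxy : ((1 : G) : G ⧸ M) ≠ ((v₀ : G) : G ⧸ M) := fun e => hv₀M (by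
      have := QuotientGroup.eq.1 e
      simpa using this)
    have hm3 : 2 ≤ m := by
      obtain ⟨t₁, ht₁, ht₁1⟩ : ∃ t₁ ∈ (T : Subgroup G), t₁ ≠ 1 ∧ t₁ ≠ u₀ := by
        by_contra hne
        push Not at hne
        have hle : (T : Subgroup G) ≤ zpowers u₀ := fun t ht => by
          by_cases ht1 : t = 1
          · rw [ht1]; exact one_mem _
          · rw [hne t ht ht1]; exact mem_zpowers _
        have hc2 := Subgroup.card_le_of_le hle
        have := h.four_le T
        rw [Nat.card_zpowers, hu₀] at hc2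
        omega
      exact Finite.one_lt_card_iff_nontrivial.2 ⟨⟨u₀, hu₀, hu₀M⟩,
        ⟨t₁, invol_of_mul_self (hTsq _ ht₁) ht₁1.1, CAHyp.T_le_NH ht₁⟩,
        fun e => ht₁1.2 (congrArg Subtype.val e).symm⟩
    rw [hm, ← se_card_swap hSE hxy] at hm3
    obtain ⟨⟨i, hi, hix⟩, ⟨j, hj, hjx⟩, hij⟩ := Finite.one_lt_card_iff_nontrivial.1 hm3
    have hne : i ≠ j := fun e => hij (Subtype.ext e)
    have hmem : i * j ∈ M := hfix1.1 (by rw [mul_smul, hjx, invol_smul_swap hi hix])
    obtain ⟨α, hα, -⟩ := se_existsUnique_fix hSE hi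
    have hjα : j • α ≠ α := fun e => by
      obtain ⟨γ, rfl⟩ := QuotientGroup.mk_surjective α
      rw [fix_coset_iff] at hα e
      have hc := h.comm_sylow T (hMinv hα (by rw [orderOf_conj_inv_eq, hi]))
        (hMinv e (by rw [orderOf_conj_inv_eq, hj]))
      have hc' : Commute i j := by
        have := (Commute.conj_iff γ).2 hc
        simpa [mul_assoc] using this
      have h2 : (i * j) * (i * j) = 1 := by
        rw [hc'.eq, mul_assoc, ← mul_assoc i j i, hc'.eq, mul_assoc j i i, invol_mul_self hi, mul_one,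
          invol_mul_self hj]
      have hT' := CAHyp.mem_T_of_sq hmem h2
      -- an involution fixing `1` moving it to the other point
      by_cases h1 : i * j = 1
      · exact hne (by rw [← eq_inv_of_mul_eq_one_left h1 |>.trans (invol_inv hj)])
      have hio : orderOf (i * j) = 2 := invol_of_mul_self h2 h1
      have hiM : i ∈ M := se_mem_of_commute hSE hio (CAHyp.T_le_NH hT')
        (show Commute i (i * j) from (Commute.refl i).mul_right hc')
      exact hxy ((hfix1.2 hiM).symm.trans hix)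
    exact (hprod hi hj hα hjα) ▸ Subgroup.orderOf_dvd_natCard M hmem
  -- compare the exponents of `r`
  have heq : n * (n - 1) * (m * m) = Nat.card (Sylow r G) * (b - 1) * b := by
    rw [← hP2, hP1, hNr]
  have hG : Nat.card G = n * Nat.card M := M.card_eq_card_quotient_mul_card_subgroup
  have hn2 : 2 ≤ n := Finite.one_lt_card_iff_nontrivial.2
    ⟨((1 : G) : G ⧸ M), (v₀ : G ⧸ M), fun e => hv₀M (by simpa using QuotientGroup.eq.1 e)⟩
  have hm0 : m ≠ 0 := fun e => by rw [e, zero_mul] at hMm; exact Nat.card_pos.ne' hMm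
  have hC0 := h.not_r_dvd_centralizer hu₀
  have hs : ¬ r ∣ Nat.card (Sylow r G) := by
    intro hd
    have h1 := card_sylow_modEq_one r G
    exact h.hr.one_lt.ne' (Nat.eq_one_of_dvd_one ((Nat.ModEq.dvd_iff h1 dvd_rfl).1 hd))
  have hbpow : b = r ^ (Nat.card G).factorization r := S₀.card_eq_multiplicity
  have hb1 : ¬ r ∣ b - 1 := by
    intro hd
    have hrb : r ∣ b := hbpow ▸ dvd_pow_self r
      (h.hr.factorization_pos_of_dvd Nat.card_pos.ne' hrG).ne'
    have hb0 : 1 ≤ b := Nat.card_pos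
    exact h.hr.one_lt.ne' (Nat.eq_one_of_dvd_one (by
      have := Nat.dvd_sub hrb hd
      rwa [Nat.sub_sub_self hb0] at this))
  have hvm : 1 ≤ m.factorization r := by
    rw [hMm] at hrM
    exact h.hr.factorization_pos_of_dvd hm0 (((Nat.Prime.dvd_mul h.hr).1 hrM).resolve_right hC0)
  have hb0 : b ≠ 0 := Nat.card_pos.ne'
  have hb10 : b - 1 ≠ 0 := fun e => hb1 (e ▸ dvd_zero r)
  have key := congrArg (fun k => k.factorization r) heq
  simp only [Nat.factorization_mul (mul_ne_zero (by omega : n ≠ 0) (by omega : n - 1 ≠ 0))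
      (mul_ne_zero hm0 hm0), Nat.factorization_mul (by omega : n ≠ 0) (by omega : n - 1 ≠ 0),
    Nat.factorization_mul hm0 hm0,
    Nat.factorization_mul (mul_ne_zero Nat.card_pos.ne' hb10) hb0,
    Nat.factorization_mul Nat.card_pos.ne' hb10, Finsupp.add_apply,
    Nat.factorization_eq_zero_of_not_dvd hs, Nat.factorization_eq_zero_of_not_dvd hb1] at key
  rw [hbpow, Nat.Prime.factorization_pow h.hr, Finsupp.single_eq_same, hG,
    Nat.factorization_mul (by omega) Nat.card_pos.ne', hMm,
    Nat.factorization_mul hm0 Nat.card_pos.ne', Finsupp.add_apply, Finsupp.add_apply,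
    Nat.factorization_eq_zero_of_not_dvd hC0] at key
  omega

end Spec

end CfsgLib.FiveOrbit
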