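import Cfsg.Agent.Lib.FiveOrbit.Core

/-!
# Four-group Sylow 2-subgroups are impossible

For `t ∈ T` the odd core `W` of `C(t)` is abelian and inverted by the other two involutions.  Every
element of order `p` is central in exactly one Sylow `p`-subgroup.  For `y ∈ W` this subgroup `Q`
has centre `W`, and then `t` centralises `Q`, against Burnside's class lemma.
-/

set_option autoImplicit false
set_option linter.unusedSectionVars false
set_option linter.style.haveILetI false

namespace CfsgLib.FiveOrbit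

open Subgroup CfsgLib.Invol CfsgLib.EqOrder

variable {G : Type*} [Group G] [Finite G] {p r : ℕ}

theorem four_cases {T : Subgroup G} (h4 : Nat.card T = 4) {a b : G} (ha : a ∈ T) (hb : b ∈ T)
    (haa : a * a = 1) (ha1 : a ≠ 1) (hb1 : b ≠ 1) (hab : a ≠ b) :
    ∀ c ∈ T, c = 1 ∨ c = a ∨ c = b ∨ c = a * b := by
  classical
  intro c hc
  have hab1 : a * b ≠ 1 := fun e => hab (mul_left_cancel (haa.trans e.symm))
  have haba : a * b ≠ a := fun e => hb1 (mul_eq_left.1 e)
  have habb : a * b ≠ b := fun e => ha1 (mul_eq_right.1 e)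
  haveI := Fintype.ofFinite T
  by_contra hne
  push Not at hne
  obtain ⟨h1, h2, h3, h4'⟩ := hne
  have hcard : ({(1 : T), ⟨a, ha⟩, ⟨b, hb⟩, ⟨a * b, mul_mem ha hb⟩, ⟨c, hc⟩} : Finset T).card = 5 := by
    repeat' (rw [Finset.card_insert_of_notMem])
    · simp
    all_goals
      simp only [Finset.mem_insert, Finset.mem_singleton, Subtype.ext_iff, Subgroup.coe_one, not_or]
      tauto
  have := Finset.card_le_univ ({(1 : T), ⟨a, ha⟩, ⟨b, hb⟩, ⟨a * b, mul_mem ha hb⟩, ⟨c, hc⟩} : Finset T)
  rw [hcard, ← Nat.card_eq_fintype_card, h4] at this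
  omega

theorem not_self_inv {x : G} (ho : Odd (orderOf x)) (h1 : x ≠ 1) : x⁻¹ ≠ x := fun e =>
  h1 (eq_one_of_sq (by nth_rewrite 1 [← e]; exact inv_mul_cancel x) ho)

namespace Spec

variable (h : Spec G p r)
include h

theorem core_facts (hI : ¬ h.CaseI) {T : Sylow 2 G} {a : G} (ha : a ∈ (T : Subgroup G)) (ha1 : a ≠ 1) :
    (∃ w ∈ core a, w ≠ 1) ∧ (∀ w ∈ core a, ∀ w' ∈ core a, Commute w w') ∧
    ∀ b ∈ (T : Subgroup G), b ≠ 1 → b ≠ a → ∀ w ∈ core a, b * w * b = w⁻¹ := by
  haveI : Fact (Nat.Prime 2) := ⟨Nat.prime_two⟩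
  obtain ⟨x, hx, w₀, hw₀, hnc⟩ := h.exists_noncommute hI ha ha1
  have hw₀1 : w₀ ≠ 1 := fun e => hnc (e ▸ Commute.one_right x)
  have h4 := h.card_sylow_four hI T
  have hao := invol_of_mul_self (h.sq_sylow T a ha) ha1
  have hinv : ∀ b ∈ (T : Subgroup G), b ≠ 1 → b ≠ a → ∀ w ∈ core a, b * w * b = w⁻¹ := by
    intro b hb hb1 hba
    have hbb := h.sq_sylow T b hb
    refine CfsgLib.Recog.SymEight.inverts_of_no_fixed hbb (fun w hw => ?_) fun w hw hc => ?_
    · have := core_normal (h.comm_sylow T hb ha) hw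
      rwa [inv_eq_of_mul_eq_one_right hbb] at this
    · refine h.eq_one_of_centralised (T := T) hao hw fun c hc' => ?_
      rcases four_cases h4 ha hb (h.sq_sylow T a ha) ha1 hb1 hba.symm c hc' with rfl | rfl | rfl | rfl
      · exact Commute.one_left w
      · exact (core_commute hw).symm
      · exact hc
      · exact (core_commute hw).symm.mul_left hc
  refine ⟨⟨w₀, hw₀, hw₀1⟩, ?_, hinv⟩
  obtain ⟨b, hb, hb1, hba⟩ : ∃ b ∈ (T : Subgroup G), b ≠ 1 ∧ b ≠ a := by
    refine ⟨x, hx, fun e => hnc (e ▸ Commute.one_left w₀), fun e => hnc ?_⟩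
    rw [e]
    exact (core_commute hw₀).symm
  intro w hw w' hw'
  have hbb := h.sq_sylow T b hb
  have e := hinv b hb hb1 hba _ (mul_mem hw hw')
  rw [show b * (w * w') * b = b * w * (1 : G) * w' * b by group, ← hbb,
    show b * w * (b * b) * w' * b = (b * w * b) * (b * w' * b) by group, hinv b hb hb1 hba w hw,
    hinv b hb hb1 hba w' hw', mul_inv_rev] at e
  have e' : Commute w⁻¹ w'⁻¹ := e
  exact inv_inv w ▸ inv_inv w' ▸ e'.inv_inv

/-- An element of order `p` is central in a Sylow `p`-subgroup containing all odd elements of its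
centraliser, and the involutions centralising it are conjugate there. -/
theorem sylow_central (hI : ¬ h.CaseI) [Fact p.Prime] {y : G} (hy : orderOf y = p) :
    ∃ P : Sylow p G, y ∈ (P : Subgroup G) ∧ (∀ a ∈ (P : Subgroup G), Commute a y) ∧
      (∀ c : G, Commute c y → Odd (orderOf c) → c ∈ (P : Subgroup G)) ∧
      ∀ u v : G, orderOf u = 2 → orderOf v = 2 → Commute u y → Commute v y →
        ∃ c : G, Commute c y ∧ c * u * c⁻¹ = v := by
  haveI : Fact (Nat.Prime 2) := ⟨Nat.prime_two⟩
  obtain ⟨P, hP, hyP⟩ := h.exists_sylow_le hy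
  set C := Subgroup.centralizer ({y} : Set G) with hC
  have hy1 : y ≠ 1 := fun e => h.hp.one_lt.ne' (by rw [← hy, e, orderOf_one])
  have hmemC : ∀ {c : G}, Commute c y → c ∈ C := fun hc => Subgroup.mem_centralizer_singleton_iff.2 hc.eq
  have hcomC : ∀ {c : G}, c ∈ C → Commute c y := fun hc => Subgroup.mem_centralizer_singleton_iff.1 hc
  have hV : ∀ V : Sylow 2 C, Nat.card (V : Subgroup C) = 2 := by
    intro V
    obtain ⟨T', hT'⟩ := (V.2.map C.subtype).exists_le_sylow
    have hle := Subgroup.card_le_of_le hT'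
    rw [card_map_of_injective C.subtype_injective, h.card_sylow_four hI T'] at hle
    obtain ⟨n, hn⟩ := IsPGroup.iff_card.1 V.2
    obtain ⟨z, hz, hzy⟩ := h.exists_commute_invol hy
    obtain ⟨g, hg⟩ := exists_conj_invol_mem_sylow V (x := (⟨z, hmemC hzy⟩ : C))
      (by rw [← Subgroup.orderOf_coe]; exact hz)
    have hn1 : n ≠ 0 := fun e => by
      rw [e, pow_zero] at hn
      haveI := (Nat.card_eq_one_iff_unique.1 hn).1
      have := congrArg Subtype.val
        (Subsingleton.elim (⟨_, hg⟩ : (V : Subgroup C)) 1)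
      have h2 := conj_eq_one_iff.1 this
      exact invol_ne_one hz (congrArg Subtype.val h2)
    have hn2 : n ≠ 2 := fun e => by
      have heq : (V : Subgroup C).map C.subtype = (T' : Subgroup G) := Subgroup.eq_of_le_of_card_ge hT'
        (by rw [card_map_of_injective C.subtype_injective, h.card_sylow_four hI T', hn, e]; norm_num)
      refine h.no_full hy1 T' P (fun a ha => ?_) fun a ha => hcomC (hP ha)
      rw [← heq] at ha
      obtain ⟨a', -, rfl⟩ := ha
      exact hcomC a'.2
    rw [hn] at hle ⊢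
    have hnle : n ≤ 2 := by
      by_contra hlt
      have : 2 ^ 3 ≤ 2 ^ n := Nat.pow_le_pow_right two_pos (by omega)
      omega
    rw [show n = 1 by omega, pow_one]
  obtain ⟨V⟩ := (inferInstance : Nonempty (Sylow 2 C))
  haveI : IsCyclic (V : Subgroup C) := isCyclic_of_prime_card (hV V)
  obtain ⟨K, hKn, hKo, hKi⟩ := exists_compl_of_cyclic_two V
  rw [hV V] at hKi
  have hodd : ∀ c : C, Odd (orderOf c) → c ∈ K := by
    intro c hc
    obtain ⟨k, hk⟩ := exists_pow_eq_self_of_coprime (n := 2) (Nat.coprime_two_left.2 hc)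
    rw [← hk]
    exact pow_mem (Subgroup.sq_mem_of_index_two hKi c) k
  have hKp : IsPGroup p (K.map C.subtype) := by
    refine IsPGroup.of_card (Nat.eq_prime_pow_of_unique_prime_dvd Nat.card_pos.ne' fun {q} hq hd => ?_)
    haveI := Fact.mk hq
    obtain ⟨⟨c, hcK⟩, hc⟩ := exists_prime_orderOf_dvd_card' q hd
    rw [← Subgroup.orderOf_coe] at hc
    rcases h.prime_cases hq hc.symm.dvd with rfl | rfl | hqr
    · exfalso
      have := Subgroup.card_map_of_injective (K := K) C.subtype_injective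
      rw [this] at hd
      exact Nat.not_even_iff_odd.2 hKo (even_iff_two_dvd.2 hd)
    · rfl
    · have hcr : orderOf c = r := hc.trans hqr
      obtain ⟨c', -, hc'⟩ := hcK
      have hcy : Commute c y := hc' ▸ hcomC c'.2
      exact (h.not_commute_pr hy hcr hcy.symm).elim
  have hPK : (P : Subgroup G) ≤ K.map C.subtype := fun a ha =>
    ⟨⟨a, hP ha⟩, hodd _ (by
      rw [← Subgroup.orderOf_coe]
      obtain ⟨k, hk⟩ := IsPGroup.iff_orderOf.1 P.2 ⟨a, ha⟩
      rw [← Subgroup.orderOf_coe] at hk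
      rw [hk]; exact h.p_odd.pow), rfl⟩
  have hPeq := P.is_maximal' hKp hPK
  refine ⟨P, hyP, fun a ha => hcomC (hP ha), fun c hc ho => ?_, fun u v hu hv huy hvy => ?_⟩
  · rw [← hPeq]
    exact ⟨⟨c, hmemC hc⟩, hodd _ (by rw [← Subgroup.orderOf_coe]; exact ho), rfl⟩
  · obtain ⟨g₁, hg₁⟩ := exists_conj_invol_mem_sylow V (x := (⟨u, hmemC huy⟩ : C))
      (by rw [← Subgroup.orderOf_coe]; exact hu)
    obtain ⟨g₂, hg₂⟩ := exists_conj_invol_mem_sylow V (x := (⟨v, hmemC hvy⟩ : C))
      (by rw [← Subgroup.orderOf_coe]; exact hv)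
    obtain ⟨e, -, he⟩ := (Nat.card_eq_two_iff' (1 : (V : Subgroup C))).1 (hV V)
    have e1 := he ⟨_, hg₁⟩ fun e' => invol_ne_one hu
      (congrArg Subtype.val (conj_eq_one_iff.1 (congrArg Subtype.val e')))
    have e2 := he ⟨_, hg₂⟩ fun e' => invol_ne_one hv
      (congrArg Subtype.val (conj_eq_one_iff.1 (congrArg Subtype.val e')))
    refine ⟨((g₂⁻¹ * g₁ : C) : G), hcomC (g₂⁻¹ * g₁).2, ?_⟩
    have e3 : g₁ * ⟨u, hmemC huy⟩ * g₁⁻¹ = g₂ * ⟨v, hmemC hvy⟩ * g₂⁻¹ :=
      congrArg Subtype.val (e1.trans e2.symm)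
    have e4 : (g₂⁻¹ * g₁) * ⟨u, hmemC huy⟩ * (g₂⁻¹ * g₁)⁻¹ = (⟨v, hmemC hvy⟩ : C) := by
      rw [show (g₂⁻¹ * g₁) * (⟨u, hmemC huy⟩ : C) * (g₂⁻¹ * g₁)⁻¹ =
        g₂⁻¹ * (g₁ * ⟨u, hmemC huy⟩ * g₁⁻¹) * g₂ by group, e3]
      group
    exact congrArg Subtype.val e4

/-- Some element of `N(T)` fixes no involution of `T`. -/
theorem exists_rotation (hI : ¬ h.CaseI) (T : Sylow 2 G) :
    ∃ f ∈ NH T, ∀ a ∈ (T : Subgroup G), a ≠ 1 → f * a * f⁻¹ ≠ a := by
  haveI := h.simple
  haveI : Fact (Nat.Prime 2) := ⟨Nat.prime_two⟩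
  have h4 := h.card_sylow_four hI T
  by_contra hne
  push Not at hne
  have hN : normalizer ((T : Subgroup G) : Set G) ≤ centralizer ((T : Subgroup G) : Set G) := by
    intro f hf
    obtain ⟨a, ha, ha1, hfa⟩ := hne f hf
    have haa := h.sq_sylow T a ha
    obtain ⟨b, hb, hb1, hba⟩ : ∃ b ∈ (T : Subgroup G), b ≠ 1 ∧ b ≠ a := by
      by_contra hcc
      push Not at hcc
      have hle : (T : Subgroup G) ≤ zpowers a := fun c hc => by
        by_cases hc1 : c = 1
        · rw [hc1]; exact one_mem _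
        · rw [hcc c hc hc1]; exact mem_zpowers a
      have := Subgroup.card_le_of_le hle
      rw [h4, Nat.card_zpowers, invol_of_mul_self haa ha1] at this
      omega
    have hab := four_cases h4 ha hb haa ha1 hb1 hba.symm
    have hfbT : ∀ g ∈ NH T, ∀ c ∈ (T : Subgroup G), g * c * g⁻¹ ∈ (T : Subgroup G) :=
      fun g hg c hc => (Subgroup.mem_normalizer_iff.1 hg c).1 hc
    have hsq2 : ∀ c ∈ (T : Subgroup G), Commute (f ^ 2) c := by
      have hca : Commute f a := mul_inv_eq_iff_eq_mul.1 hfa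
      have hcb : Commute (f ^ 2) b := by
        rcases hab _ (hfbT f hf b hb) with e | e | e | e
        · exact absurd (conj_eq_one_iff.1 e) hb1
        · exact absurd (mul_left_cancel (mul_right_cancel (e.trans hfa.symm))) hba
        · exact (show Commute f b from mul_inv_eq_iff_eq_mul.1 e).pow_left 2
        · have : f ^ 2 * b * (f ^ 2)⁻¹ = b := by
            rw [show f ^ 2 * b * (f ^ 2)⁻¹ = f * (f * b * f⁻¹) * f⁻¹ by rw [pow_two]; group, e,
              ← conj_mul, hfa, e, ← mul_assoc, haa, one_mul]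
          exact mul_inv_eq_iff_eq_mul.1 this
      intro c hc
      rcases hab c hc with rfl | rfl | rfl | rfl
      · exact Commute.one_right _
      · exact hca.pow_left 2
      · exact hcb
      · exact (hca.pow_left 2).mul_right hcb
    refine mem_centralizer_iff.2 fun c hc => ?_
    obtain ⟨k, m, hm, hkm⟩ := Nat.exists_eq_two_pow_mul_odd (orderOf_pos f).ne'
    have hfm : orderOf (f ^ m) = 2 ^ k := by
      rw [orderOf_pow_of_dvd (by rintro rfl; exact absurd hm (by decide)) (hkm ▸ dvd_mul_left m _), hkm,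
        Nat.mul_div_cancel _ hm.pos]
    have hfmT := CAHyp.mem_T_of_sq (pow_mem hf m) (h.sq_of_two_pow hfm)
    obtain ⟨j, hj⟩ := hm
    have he : f = ((f ^ 2) ^ j)⁻¹ * f ^ m := by
      rw [hj, ← pow_mul, pow_succ f (2 * j), inv_mul_cancel_left]
    have hcf : Commute f c := he ▸ ((hsq2 c hc).pow_left j).inv_left.mul_left (h.comm_sylow T hfmT hc)
    exact hcf.symm.eq
  have hco := MonoidHom.ker_transferSylow_isComplement' T hN
  rcases IsSimpleGroup.eq_bot_or_eq_top_of_normal _ (MonoidHom.normal_ker (MonoidHom.transferSylow T hN))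
    with e | e
  · rw [e] at hco
    have := (Subgroup.isComplement'_bot_left.1 hco)
    obtain ⟨g, hg⟩ := h.two_p
    have hdvd := orderOf_dvd_natCard g
    rw [hg, ← Subgroup.card_top (G := G), ← this, h4] at hdvd
    have := Nat.le_of_dvd (by norm_num) hdvd
    have := h.three_le
    omega
  · have h1 := hco.symm.index_eq_card
    rw [e, Subgroup.index_top, h4] at h1
    omega

/-- Conjugating by an element of `N(T)` maps odd cores to odd cores. -/
theorem conj_core {T : Sylow 2 G} {g a : G} (hg : g ∈ NH T) (ha : a ∈ (T : Subgroup G)) (ha1 : a ≠ 1)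
    {x : G} : x ∈ core a ↔ g * x * g⁻¹ ∈ core (g * a * g⁻¹) := by
  set b := g * a * g⁻¹ with hb
  have hbT : b ∈ (T : Subgroup G) := (Subgroup.mem_normalizer_iff.1 hg a).1 ha
  have hb1 : b ≠ 1 := fun e => ha1 (conj_eq_one_iff.1 e)
  set Y := (core a).map (MulAut.conj g).toMonoidHom with hY
  have hYc : Nat.card Y = Nat.card (core a) := card_map_of_injective (MulAut.conj g).injective
  have hle : Y ≤ core b := by
    refine h.le_core hbT hb1 (by rw [hYc]; exact odd_core a) ?_ ?_
    · rintro _ ⟨y, hy, rfl⟩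
      exact (Commute.conj_iff g).2 (core_commute hy)
    · rintro c hc _ ⟨y, hy, rfl⟩
      refine ⟨(g⁻¹ * c * g) * y * (g⁻¹ * c * g)⁻¹, core_normal (h.comm_sylow T ?_ ha) hy, ?_⟩
      · simpa using (Subgroup.mem_normalizer_iff.1 (inv_mem hg) c).1 hc
      · show g * ((g⁻¹ * c * g) * y * (g⁻¹ * c * g)⁻¹) * g⁻¹ = c * (g * y * g⁻¹) * c⁻¹
        group
  have heq := Subgroup.eq_of_le_of_card_ge hle (by
    rw [hYc, h.card_core_eq (invol_of_mul_self (h.sq_sylow T b hbT) hb1)
      (invol_of_mul_self (h.sq_sylow T a ha) ha1)])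
  rw [← heq]
  refine ⟨fun hx => ⟨x, hx, rfl⟩, ?_⟩
  rintro ⟨x', hx', e⟩
  have : x' = x := (MulAut.conj g).injective e
  exact this ▸ hx'

/-- Elements of `C(t)` fix or invert the odd core. -/
theorem conj_pm (hI : ¬ h.CaseI) {T : Sylow 2 G} {t : G} (ht : t ∈ (T : Subgroup G)) (ht1 : t ≠ 1)
    {d : G} (hd : Commute d t) {w : G} (hw : w ∈ core t) :
    d * w * d⁻¹ = w ∨ d * w * d⁻¹ = w⁻¹ := by
  obtain ⟨-, hab, hinv⟩ := h.core_facts hI ht ht1
  let PM : Subgroup G :=
    { carrier := {c | (∀ w ∈ core t, c * w * c⁻¹ = w) ∨ ∀ w ∈ core t, c * w * c⁻¹ = w⁻¹}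
      one_mem' := Or.inl fun w _ => by simp
      mul_mem' := by
        intro a b ha hb
        have e : ∀ w, a * b * w * (a * b)⁻¹ = a * (b * w * b⁻¹) * a⁻¹ := fun w => by group
        rcases ha with ha | ha <;> rcases hb with hb | hb
        · exact Or.inl fun w hw => by rw [e, hb w hw, ha w hw]
        · exact Or.inr fun w hw => by rw [e, hb w hw, ha _ (inv_mem hw)]
        · exact Or.inr fun w hw => by rw [e, hb w hw, ha w hw]
        · exact Or.inl fun w hw => by rw [e, hb w hw, ha _ (inv_mem hw), inv_inv]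
      inv_mem' := by
        intro a ha
        rcases ha with ha | ha
        · refine Or.inl fun w hw => ?_
          nth_rewrite 1 [← ha w hw]
          group
        · refine Or.inr fun w hw => ?_
          have := ha _ (inv_mem hw)
          rw [inv_inv] at this
          nth_rewrite 1 [← this]
          group }
  suffices hdPM : d ∈ PM by
    rcases hdPM with hh | hh
    exacts [Or.inl (hh w hw), Or.inr (hh w hw)]
  have hTPM : ∀ a ∈ (T : Subgroup G), a ∈ PM := by
    intro a ha
    by_cases ha1 : a = 1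
    · exact ha1 ▸ one_mem _
    by_cases hat : a = t
    · refine Or.inl fun w hw => ?_
      rw [hat, (core_commute hw).symm.eq, mul_inv_cancel_right]
    · refine Or.inr fun w hw => ?_
      rw [inv_eq_of_mul_eq_one_right (h.sq_sylow T a ha)]
      exact hinv a ha ha1 hat w hw
  have hmem : ∀ x a' : G, a' ∈ (T : Subgroup G) → a'⁻¹ * x ∈ core t → x ∈ PM := by
    intro x a' ha' hx
    have hW : a'⁻¹ * x ∈ PM := Or.inl fun w hw => by
      rw [(hab _ hx w hw).eq, mul_inv_cancel_right]
    have := mul_mem (hTPM a' ha') hW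
    rwa [mul_inv_cancel_left] at this
  obtain ⟨hm1, hm2, hm3⟩ := h.mod_core ht ht1
  have hsq : d ^ 2 ∈ PM := by
    have hd2 : Commute (d ^ 2) t := hd.pow_left 2
    suffices hkey : ∀ a ∈ (T : Subgroup G), d ^ 2 * a * (d ^ 2)⁻¹ * a⁻¹ ∈ core t by
      obtain ⟨a', ha', hx⟩ := hm3 _ hd2 hkey
      exact hmem _ a' ha' hx
    intro a ha
    obtain ⟨b, hb, hbw⟩ := hm1 d a hd ha
    have hdw : ∀ w ∈ core t, d * w * d⁻¹ ∈ core t := fun w hw => core_normal hd hw
    -- it suffices that the image of the image is the element itself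
    suffices hdb : a⁻¹ * (d * b * d⁻¹) ∈ core t by
      have h1 := mul_mem hdb (hdw _ hbw)
      rw [show a⁻¹ * (d * b * d⁻¹) * (d * (b⁻¹ * (d * a * d⁻¹)) * d⁻¹) =
        a⁻¹ * (d ^ 2 * a * (d ^ 2)⁻¹) by rw [pow_two]; group] at h1
      have h2 := core_normal (h.comm_sylow T ha ht) h1
      rwa [show a * (a⁻¹ * (d ^ 2 * a * (d ^ 2)⁻¹)) * a⁻¹ = d ^ 2 * a * (d ^ 2)⁻¹ * a⁻¹ by group] at h2
    have hdt : d * t * d⁻¹ = t := by rw [hd.eq, mul_inv_cancel_right]
    have hnot : ∀ c : G, c ∈ (T : Subgroup G) → c ≠ 1 → d * c * d⁻¹ ∉ core t := fun c hc hc1 hh =>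
      hc1 (conj_eq_one_iff.1 (eq_one_of_sq (by rw [conj_mul, h.sq_sylow T c hc, mul_one, mul_inv_cancel])
        (odd_orderOf_of_mem (odd_core t) hh)))
    by_cases ha1 : a = 1
    · have hb1 : b = 1 := by
        rw [ha1, mul_one, mul_inv_cancel, mul_one] at hbw
        exact inv_eq_one.1 (eq_one_of_sq
          (by rw [inv_eq_of_mul_eq_one_right (h.sq_sylow T b hb), h.sq_sylow T b hb])
          (odd_orderOf_of_mem (odd_core t) hbw))
      rw [ha1, hb1]; simp
    by_cases hat : a = t
    · have hb1 : b = t := by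
        rw [hat, hdt] at hbw
        exact inv_mul_eq_one.1 (eq_one_of_sq (h.sq_sylow T _ (mul_mem (inv_mem hb) ht))
          (odd_orderOf_of_mem (odd_core t) hbw))
      rw [hat, hb1, hdt, inv_mul_cancel]; exact one_mem _
    rcases four_cases (h.card_sylow_four hI T) ht ha (h.sq_sylow T t ht) ht1 ha1 (Ne.symm hat) b hb
      with e | e | e | e
    · rw [e, inv_one, one_mul] at hbw
      exact absurd hbw (hnot a ha ha1)
    · rw [e, inv_eq_of_mul_eq_one_right (h.sq_sylow T t ht)] at hbw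
      refine absurd ?_ (hnot (t * a) (mul_mem ht ha) fun e' => hat
        (mul_left_cancel ((h.sq_sylow T t ht).trans e'.symm)).symm)
      rw [← conj_mul, hdt]
      exact hbw
    · subst e; exact hbw
    · rw [e] at hbw ⊢
      rw [← conj_mul, hdt]
      rw [mul_inv_rev, mul_assoc] at hbw
      rw [inv_eq_of_mul_eq_one_right (h.sq_sylow T t ht)] at hbw
      exact hbw
  obtain ⟨k, m, hm, hkm⟩ := Nat.exists_eq_two_pow_mul_odd (orderOf_pos d).ne'
  have hdm : orderOf (d ^ m) = 2 ^ k := by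
    rw [orderOf_pow_of_dvd (by rintro rfl; exact absurd hm (by decide)) (hkm ▸ dvd_mul_left m _), hkm,
      Nat.mul_div_cancel _ hm.pos]
  obtain ⟨a', ha', hx⟩ := hm2 _ (hd.pow_left m) (h.sq_of_two_pow hdm)
  obtain ⟨j, hj⟩ := hm
  have he : d = ((d ^ 2) ^ j)⁻¹ * d ^ m := by rw [hj, ← pow_mul, pow_succ d (2 * j), inv_mul_cancel_left]
  rw [he]
  exact mul_mem (inv_mem (pow_mem hsq j)) (hmem _ a' ha' hx)

/-- An involution normalising a Sylow `p`-subgroup `Q` normalised by `T` lies in `TQ`. -/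
theorem invol_mod_sylow (hI : ¬ h.CaseI) [Fact p.Prime] {T : Sylow 2 G} (Q : Sylow p G)
    (hTQ : (T : Subgroup G) ≤ normalizer ((Q : Subgroup G) : Set G)) {i : G} (hi : orderOf i = 2)
    (hiQ : i ∈ normalizer ((Q : Subgroup G) : Set G)) :
    ∃ v ∈ (T : Subgroup G), v⁻¹ * i ∈ (Q : Subgroup G) := by
  haveI : Fact (Nat.Prime 2) := ⟨Nat.prime_two⟩
  set X := normalizer ((Q : Subgroup G) : Set G) with hX
  set N := (Q : Subgroup G).subgroupOf X with hN
  haveI : N.Normal := normal_in_normalizer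
  have hQo : Odd (Nat.card (Q : Subgroup G)) := by
    obtain ⟨n, hn⟩ := IsPGroup.iff_card.1 Q.2
    rw [hn]; exact h.p_odd.pow
  have hNo : Odd (Nat.card N) := by
    rw [hN, Nat.card_congr (subgroupOfEquivOfLe Subgroup.le_normalizer).toEquiv]
    exact hQo
  let L := X ⧸ N
  have hLp : ¬ p ∣ Nat.card L := fun hd => Q.not_dvd_index
    (hd.trans (Dvd.intro _ (Subgroup.relIndex_mul_index (Subgroup.le_normalizer (H := (Q : Subgroup G))))))
  have hLdvd : Nat.card L ∣ Nat.card G := (Subgroup.card_quotient_dvd_card N).trans X.card_subgroup_dvd_card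
  haveI : Group.IsSolvable L := by
    obtain ⟨a, m, hm, he⟩ := Nat.exists_eq_pow_mul_and_not_dvd (Nat.card_pos (α := L)).ne' 2 (by norm_num)
    have hpow := Nat.eq_prime_pow_of_unique_prime_dvd (p := r) (n := m) (fun e => hm (e ▸ dvd_zero 2))
      fun {d} hd hdd => by
        have hdL : d ∣ Nat.card L := hdd.trans (he ▸ dvd_mul_left m _)
        rcases h.prime_dvd_card hd (hdL.trans hLdvd) with rfl | rfl | rfl
        · exact absurd hdd hm
        · exact absurd hdL hLp
        · rfl
    exact CfsgLib.Char.burnside_pq 2 r Nat.prime_two h.hr a _ L (he.trans (congrArg _ hpow))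
  -- `T` has no fixed point on the odd core
  set O := Cfsg.oddCore L with hO'
  have hfix : ∀ a : X, (a : G) ∈ (T : Subgroup G) → (a : G) ≠ 1 → ∀ l ∈ O, Commute (a : L) l → l = 1 := by
    intro a haT ha1 l hl hc
    by_contra hl1
    obtain ⟨w, rfl⟩ := QuotientGroup.mk_surjective l
    have hao : orderOf a = 2 := by
      rw [← Subgroup.orderOf_coe]; exact invol_of_mul_self (h.sq_sylow T _ haT) ha1
    obtain ⟨z, hz, hzc⟩ := exists_commute_lift hNo hao (w := w) (by
      rw [← QuotientGroup.eq_one_iff]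
      simp only [QuotientGroup.mk_mul, QuotientGroup.mk_inv]
      rw [hc.eq, mul_assoc (w : L), ← QuotientGroup.mk_mul, invol_mul_self hao, QuotientGroup.mk_one,
        mul_one, inv_mul_cancel])
    have heq : ((w * z : X) : L) = (w : L) := by
      rw [QuotientGroup.mk_mul, (QuotientGroup.eq_one_iff z).2 hz, mul_one]
    have hrd : r ∣ orderOf (w : L) := by
      obtain ⟨q, hq, hqd⟩ := Nat.exists_prime_and_dvd (n := orderOf (w : L))
        (fun e => hl1 (orderOf_eq_one_iff.1 e))
      have hqL : q ∣ Nat.card L := hqd.trans (orderOf_dvd_natCard _)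
      rcases h.prime_dvd_card hq (hqL.trans hLdvd) with rfl | rfl | rfl
      · exact absurd (even_iff_two_dvd.2 hqd)
          (Nat.not_even_iff_odd.2 (odd_orderOf_of_mem (odd_card_oddCore L) hl))
      · exact absurd hqL hLp
      · exact hqd
    have hrd' : r ∣ orderOf (w * z) := hrd.trans (heq ▸ orderOf_mk_dvd (w * z))
    have hrd'' : r ∣ orderOf ((w * z : X) : G) := by rwa [Subgroup.orderOf_coe]
    have hho := orderOf_pow_of_dvd (x := ((w * z : X) : G))
      (n := orderOf ((w * z : X) : G) / r)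
      (Nat.div_pos (Nat.le_of_dvd (orderOf_pos _) hrd'') h.hr.pos).ne' (Nat.div_dvd_of_dvd hrd'')
    rw [Nat.div_div_self hrd'' (orderOf_pos _).ne'] at hho
    exact h.not_commute_r (u := (a : G)) (by rw [Subgroup.orderOf_coe]; exact hao) hho
      ((hzc.map X.subtype).pow_right _)
  have h4 := h.card_sylow_four hI T
  obtain ⟨a, ha, ha1, b, hb, hb1, hba⟩ : ∃ a ∈ (T : Subgroup G), a ≠ 1 ∧
      ∃ b ∈ (T : Subgroup G), b ≠ 1 ∧ b ≠ a := by
    haveI : Nontrivial (T : Subgroup G) := Finite.one_lt_card_iff_nontrivial.1 (by omega)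
    obtain ⟨⟨a, ha⟩, ha1⟩ := exists_ne (1 : (T : Subgroup G))
    refine ⟨a, ha, fun e => ha1 (Subtype.ext e), ?_⟩
    by_contra hcc
    push Not at hcc
    have hle : (T : Subgroup G) ≤ zpowers a := fun c hc => by
      by_cases hc1 : c = 1
      · rw [hc1]; exact one_mem _
      · rw [hcc c hc hc1]; exact mem_zpowers a
    have := Subgroup.card_le_of_le hle
    rw [h4, Nat.card_zpowers, invol_of_mul_self (h.sq_sylow T a ha) (fun e => ha1 (Subtype.ext e))] at this
    omega
  have hOn : O.Normal := normal_oddCore L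
  have hinvO : ∀ c : X, (c : G) ∈ (T : Subgroup G) → (c : G) ≠ 1 →
      ∀ l ∈ O, (c : L) * l * (c : L) = l⁻¹ := by
    intro c hc hc1
    have hcc : (c : L) * (c : L) = 1 := by
      rw [← QuotientGroup.mk_mul, show c * c = 1 from Subtype.ext (h.sq_sylow T _ hc),
        QuotientGroup.mk_one]
    refine CfsgLib.Recog.SymEight.inverts_of_no_fixed hcc (fun l hl => ?_) (hfix c hc hc1)
    have := hOn.conj_mem l hl (c : L)
    rwa [inv_eq_of_mul_eq_one_right hcc] at this
  have hObot : O = ⊥ := (Subgroup.eq_bot_iff_forall _).2 fun l hl => by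
    set a' : X := ⟨a, hTQ ha⟩
    set b' : X := ⟨b, hTQ hb⟩
    have hab' : ((a' * b' : X) : G) ≠ 1 := fun e => hba
      (mul_left_cancel ((h.sq_sylow T a ha).trans (e : a * b = 1).symm)).symm
    refine hfix (a' * b') (mul_mem ha hb) hab' l hl ?_
    have haa : (a' : L) * (a' : L) = 1 := by
      rw [← QuotientGroup.mk_mul, show a' * a' = 1 from Subtype.ext (h.sq_sylow T a ha),
        QuotientGroup.mk_one]
    have hbb : (b' : L) * (b' : L) = 1 := by
      rw [← QuotientGroup.mk_mul, show b' * b' = 1 from Subtype.ext (h.sq_sylow T b hb),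
        QuotientGroup.mk_one]
    have e1 := hinvO a' ha ha1 _ (inv_mem hl)
    have e2 := hinvO b' hb hb1 l hl
    rw [inv_inv] at e1
    have hab : (a' : L) * (b' : L) = (b' : L) * (a' : L) := by
      rw [← QuotientGroup.mk_mul, ← QuotientGroup.mk_mul,
        show a' * b' = b' * a' from Subtype.ext (h.comm_sylow T ha hb).eq]
    show (a' : L) * b' * l = l * ((a' : L) * b')
    calc (a' : L) * b' * l = a' * (b' * l * b') * b' := by
          rw [show (a' : L) * (b' * l * b') * b' = a' * b' * l * (b' * b') by group, hbb, mul_one]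
      _ = a' * l⁻¹ * (a' : L) * ((a' : L) * b') := by
          rw [e2, show (a' : L) * l⁻¹ * a' * (a' * b') = a' * l⁻¹ * (a' * a') * b' by group, haa, mul_one]
      _ = l * ((a' : L) * b') := by rw [e1]
  set T₁ : Sylow 2 X := T.subtype hTQ
  set Tb : Sylow 2 L := T₁.mapSurjective (f := QuotientGroup.mk' N) (QuotientGroup.mk'_surjective N)
  obtain ⟨hn, -⟩ := normal_of_oddCore_bot hObot Tb (by
    rintro _ ⟨x, hx, rfl⟩ _ ⟨x', hx', rfl⟩
    rw [← map_mul, ← map_mul]
    exact congrArg _ (Subtype.ext (h.comm_sylow T (Subgroup.mem_subgroupOf.1 hx)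
      (Subgroup.mem_subgroupOf.1 hx')).eq))
  set i' : X := ⟨i, hiQ⟩
  have hmem : (i' : L) ∈ (Tb : Subgroup L) := by
    by_cases hi1 : (i' : L) = 1
    · rw [hi1]; exact one_mem _
    have hio : orderOf (i' : L) = 2 := invol_of_mul_self (by
      rw [← QuotientGroup.mk_mul, show i' * i' = 1 from Subtype.ext (invol_mul_self hi),
        QuotientGroup.mk_one]) hi1
    obtain ⟨g, hg⟩ := exists_conj_invol_mem_sylow Tb hio
    have := hn.conj_mem _ hg g⁻¹
    rwa [show g⁻¹ * (g * (i' : L) * g⁻¹) * g⁻¹⁻¹ = (i' : L) by group] at this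
  obtain ⟨x, hx, hxi⟩ := hmem
  exact ⟨x, Subgroup.mem_subgroupOf.1 hx, Subgroup.mem_subgroupOf.1 (QuotientGroup.eq.1 hxi)⟩

theorem false_of_not_caseI (hI : ¬ h.CaseI) : False := by
  haveI : Fact (Nat.Prime 2) := ⟨Nat.prime_two⟩
  haveI := Fact.mk h.hp
  obtain ⟨T⟩ := (inferInstance : Nonempty (Sylow 2 G))
  have h4 := h.card_sylow_four hI T
  obtain ⟨t, ht, ht1⟩ : ∃ t ∈ (T : Subgroup G), t ≠ 1 := by
    haveI : Nontrivial (T : Subgroup G) := Finite.one_lt_card_iff_nontrivial.1 (by omega)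
    obtain ⟨⟨a, ha⟩, ha1⟩ := exists_ne (1 : (T : Subgroup G))
    exact ⟨a, ha, fun e => ha1 (Subtype.ext e)⟩
  have hinvol : ∀ {a : G}, a ∈ (T : Subgroup G) → a ≠ 1 → orderOf a = 2 :=
    fun ha ha1 => invol_of_mul_self (h.sq_sylow T _ ha) ha1
  have hainv : ∀ {a : G}, a ∈ (T : Subgroup G) → a⁻¹ = a :=
    fun ha => inv_eq_of_mul_eq_one_right (h.sq_sylow T _ ha)
  obtain ⟨⟨y, hyW, hy1⟩, hab, hinvW⟩ := h.core_facts hI ht ht1
  have hyp := h.order_core (hinvol ht ht1) hyW hy1
  have hord : ∀ {a w : G}, a ∈ (T : Subgroup G) → a ≠ 1 → w ∈ core a → w ≠ 1 → orderOf w = p :=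
    fun ha ha1 hw hw1 => h.order_core (hinvol ha ha1) hw hw1
  obtain ⟨Q, hyQ, hQy, hQmem, -⟩ := h.sylow_central hI hyp
  have hQodd : ∀ {q : G}, q ∈ (Q : Subgroup G) → Odd (orderOf q) := fun {q} hq => by
    obtain ⟨k, hk⟩ := IsPGroup.iff_orderOf.1 Q.2 ⟨q, hq⟩
    rw [← Subgroup.orderOf_coe] at hk
    rw [hk]; exact h.p_odd.pow
  have hQord : ∀ {q : G}, q ∈ (Q : Subgroup G) → q ≠ 1 → orderOf q = p := fun {q} hq hq1 => by
    refine (h.order_of_odd (hQodd hq) hq1).resolve_right fun e => ?_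
    obtain ⟨k, hk⟩ := IsPGroup.iff_orderOf.1 Q.2 ⟨q, hq⟩
    rw [← Subgroup.orderOf_coe, e] at hk
    exact h.ne ((Nat.prime_dvd_prime_iff_eq h.hr h.hp).1 (h.hr.dvd_of_dvd_pow hk.dvd)).symm
  have hWQ : ∀ w ∈ core t, w ∈ (Q : Subgroup G) := fun w hw =>
    hQmem w (hab w hw y hyW) (odd_orderOf_of_mem (odd_core t) hw)
  have hTQ : ∀ a ∈ (T : Subgroup G), ∀ q ∈ (Q : Subgroup G), a * q * a⁻¹ ∈ (Q : Subgroup G) := by
    intro a ha q hq
    refine hQmem _ ?_ (by rw [orderOf_conj_eq]; exact hQodd hq)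
    have hc := (Commute.conj_iff a).2 (hQy q hq)
    rcases h.conj_pm hI ht ht1 (h.comm_sylow T ha ht) hyW with e | e <;> rw [e] at hc
    · exact hc
    · simpa using hc.inv_right
  have hTN : (T : Subgroup G) ≤ normalizer ((Q : Subgroup G) : Set G) := fun a ha =>
    Subgroup.mem_normalizer_iff.2 fun q => ⟨hTQ a ha q, fun hq => by
      have := hTQ a ha _ hq
      rwa [hainv ha, show a * (a * q * a) * a = (a * a) * q * (a * a) by group, h.sq_sylow T a ha,
        one_mul, mul_one] at this⟩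
  have hfix : ∀ a ∈ (T : Subgroup G), a ≠ 1 → ∀ q ∈ (Q : Subgroup G), Commute q a → q ∈ core a := by
    intro a ha ha1 q hq hqa
    refine h.le_core ha ha1 (Y := (Q : Subgroup G) ⊓ Subgroup.centralizer ({a} : Set G)) ?_
      (fun x hx => Subgroup.mem_centralizer_singleton_iff.1 hx.2) (fun c hc x hx => ⟨hTQ c hc x hx.1, ?_⟩)
      ⟨hq, Subgroup.mem_centralizer_singleton_iff.2 hqa.eq⟩
    · obtain ⟨n, hn⟩ := IsPGroup.iff_card.1 Q.2
      exact Odd.of_dvd_nat (hn ▸ h.p_odd.pow) (Subgroup.card_dvd_of_le inf_le_left)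
    · have hxa : Commute x a := Subgroup.mem_centralizer_singleton_iff.1 hx.2
      refine Subgroup.mem_centralizer_singleton_iff.2 ?_
      exact (((h.comm_sylow T hc ha).mul_left hxa).mul_left (h.comm_sylow T hc ha).inv_left).eq
  -- the centre of `Q` is centralised by `t`
  have hZt : ∀ z ∈ (Q : Subgroup G), (∀ q ∈ (Q : Subgroup G), Commute z q) → z ∈ core t := by
    have hex : ∀ z ∈ (Q : Subgroup G), (∀ q ∈ (Q : Subgroup G), Commute z q) →
        ∃ v ∈ (T : Subgroup G), v ≠ 1 ∧ Commute v z := by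
      intro z hz hzc
      by_cases hz1 : z = 1
      · exact ⟨t, ht, ht1, hz1 ▸ Commute.one_right t⟩
      obtain ⟨P, -, hPz, hPmem, -⟩ := h.sylow_central hI (hQord hz hz1)
      have hQP : (P : Subgroup G) = (Q : Subgroup G) :=
        Q.is_maximal' P.2 fun q hq => hPmem q (hzc q hq).symm (hQodd hq)
      obtain ⟨i, hi, hiz⟩ := h.exists_commute_invol (hQord hz hz1)
      have hfwd : ∀ q ∈ (Q : Subgroup G), i * q * i⁻¹ ∈ (Q : Subgroup G) := fun q hq => by
        rw [← hQP]
        refine hPmem _ ?_ (by rw [orderOf_conj_eq]; exact hQodd hq)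
        exact ((hiz.mul_left (hzc q hq).symm).mul_left hiz.inv_left)
      have hiN : i ∈ normalizer ((Q : Subgroup G) : Set G) :=
        Subgroup.mem_normalizer_iff.2 fun q => ⟨hfwd q, fun hq => by
          have := hfwd _ hq
          rwa [invol_inv hi, show i * (i * q * i) * i = (i * i) * q * (i * i) by group,
            invol_mul_self hi, one_mul, mul_one] at this⟩
      obtain ⟨v, hv, hvq⟩ := h.invol_mod_sylow hI Q hTN hi hiN
      refine ⟨v, hv, fun e => ?_, ?_⟩
      · rw [e, inv_one, one_mul] at hvq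
        have := hQodd hvq
        rw [hi] at this
        exact absurd this (by decide)
      · have := hiz.mul_left (hzc _ hvq).symm.inv_left
        rwa [mul_inv_rev, inv_inv, mul_inv_cancel_left] at this
    intro z hz hzc
    refine hfix t ht ht1 z hz ?_
    obtain ⟨v, hv, hv1, hvz⟩ := hex z hz hzc
    by_cases hvt : v = t
    · exact hvt ▸ hvz.symm
    have hvy := hinvW v hv hv1 hvt y hyW
    obtain ⟨v', hv', hv'1, hv'z⟩ := hex (y * z) (mul_mem hyQ hz) fun q hq => (hQy q hq).symm.mul_left (hzc q hq)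
    have hty : Commute t y := (core_commute hyW).symm
    rcases four_cases h4 ht hv (h.sq_sylow T t ht) ht1 hv1 (Ne.symm hvt) v' hv' with e | e | e | e
    · exact absurd e hv'1
    · subst e
      have := hty.inv_right.mul_right hv'z
      rw [inv_mul_cancel_left] at this
      exact this.symm
    · subst e
      exfalso
      have hvyc : Commute v' y := by
        have := hv'z.mul_right hvz.inv_right
        rwa [mul_inv_cancel_right] at this
      refine not_self_inv (by rw [hyp]; exact h.p_odd) hy1 ?_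
      rw [← hvy, hvyc.eq, mul_assoc, h.sq_sylow T v' hv, mul_one]
    · subst e
      exfalso
      have htt := h.sq_sylow T t ht
      have hvv := h.sq_sylow T v hv
      have e1 : t * z * t = y * y * z := by
        have e0 : t * v * (y * z) * (v * t) = y * z := by
          rw [hv'z.eq, show y * z * (t * v) * (v * t) = y * z * (t * (v * v) * t) by group, hvv, mul_one,
            htt, mul_one]
        rw [show t * v * (y * z) * (v * t) = t * (v * y * z * v) * t by group,
          show v * y * z * v = v * y * (v * v) * z * v by rw [hvv]; group,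
          show v * y * (v * v) * z * v = (v * y * v) * (v * z * v) by group, hvy,
          hvz.eq, mul_assoc z v v, hvv, mul_one,
          show t * (y⁻¹ * z) * t = t * y⁻¹ * z * t by group, hty.inv_right.eq,
          show y⁻¹ * t * z * t = y⁻¹ * (t * z * t) by group, inv_mul_eq_iff_eq_mul] at e0
        rw [e0, mul_assoc]
      have e2 : z = y * y * (y * y * z) := by
        calc z = (t * t) * z * (t * t) := by rw [htt]; group
          _ = t * (t * z * t) * t := by group
          _ = (t * (y * y)) * z * t := by rw [e1]; group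
          _ = y * y * (t * z * t) := by rw [(hty.mul_right hty).eq]; group
          _ = y * y * (y * y * z) := by rw [e1]
      have hy4 : y ^ 4 = 1 := by
        rw [show y * y * (y * y * z) = y ^ 4 * z by simp only [pow_succ, pow_zero, one_mul, mul_assoc]] at e2
        exact (mul_eq_right.1 e2.symm)
      have hd := orderOf_dvd_of_pow_eq_one hy4
      rw [hyp] at hd
      exact h.ne_two.1 ((Nat.prime_dvd_prime_iff_eq h.hp Nat.prime_two).1
        (h.hp.dvd_of_dvd_pow (show p ∣ 2 ^ 2 from hd)))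
  -- `W` is the centre of `Q`
  have hWZ : ∀ w ∈ core t, ∀ q ∈ (Q : Subgroup G), Commute w q := by
    intro w hw
    by_cases hw1 : w = 1
    · intro q _; exact hw1 ▸ Commute.one_left q
    obtain ⟨P, hwP, hPw, -, hconj⟩ := h.sylow_central hI (hord ht ht1 hw hw1)
    obtain ⟨g, hg⟩ := MulAction.exists_smul_eq G P Q
    have hgmem : ∀ q ∈ (Q : Subgroup G), g⁻¹ * q * g ∈ (P : Subgroup G) := fun q hq => by
      rw [← hg, Sylow.coe_subgroup_smul, Subgroup.mem_pointwise_smul_iff_inv_smul_mem] at hq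
      simpa using hq
    have hz : g * w * g⁻¹ ∈ (Q : Subgroup G) := by
      rw [← hg, Sylow.coe_subgroup_smul, Subgroup.mem_pointwise_smul_iff_inv_smul_mem]
      simpa [mul_assoc] using hwP
    have hzc : ∀ q ∈ (Q : Subgroup G), Commute (g * w * g⁻¹) q := fun q hq => by
      have := (Commute.conj_iff g).2 (hPw _ (hgmem q hq)).symm
      rwa [show g * (g⁻¹ * q * g) * g⁻¹ = q by group] at this
    have hzW := hZt _ hz hzc
    have hti : Commute (g⁻¹ * t * g) w := by
      have := (Commute.conj_iff g⁻¹).2 (core_commute hzW).symm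
      rwa [inv_inv, show g⁻¹ * (g * w * g⁻¹) * g = w by group] at this
    obtain ⟨c, hcw, hc⟩ := hconj (g⁻¹ * t * g) t
      (by rw [← orderOf_conj_eq g, show g * (g⁻¹ * t * g) * g⁻¹ = t by group]; exact hinvol ht ht1)
      (hinvol ht ht1) hti (core_commute hw).symm
    have hdt : Commute (g * c⁻¹) t := by
      calc g * c⁻¹ * t = g * c⁻¹ * (c * (g⁻¹ * t * g) * c⁻¹) := by rw [hc]
        _ = t * (g * c⁻¹) := by group
    have hdw : g * c⁻¹ * w * (g * c⁻¹)⁻¹ = g * w * g⁻¹ := by
      rw [mul_assoc g c⁻¹ w, hcw.inv_left.eq]; group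
    intro q hq
    rcases h.conj_pm hI ht ht1 hdt hw with e | e <;> rw [hdw] at e
    · exact e ▸ hzc q hq
    · have := (e ▸ hzc q hq).inv_left
      rwa [inv_inv] at this
  -- the other involutions have no fixed points on `Q`
  have hfree : ∀ g ∈ NH T, g * t * g⁻¹ ≠ t → g * (g * t * g⁻¹) * g⁻¹ = t * (g * t * g⁻¹) →
      ∀ q ∈ (Q : Subgroup G), Commute (g * t * g⁻¹) q → q = 1 := by
    intro g hg hgt hg2
    set v := g * t * g⁻¹ with hv'
    have hv : v ∈ (T : Subgroup G) := (Subgroup.mem_normalizer_iff.1 hg t).1 ht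
    have hv1 : v ≠ 1 := fun e => ht1 (conj_eq_one_iff.1 e)
    set x := t * v with hx'
    have hx : x ∈ (T : Subgroup G) := mul_mem ht hv
    have hx1 : x ≠ 1 := fun e => hgt (mul_left_cancel ((h.sq_sylow T t ht).trans e.symm)).symm
    have hg3 : g * x * g⁻¹ = t := by
      have hxv : g * (t * v) * g⁻¹ = v * (t * v) := by rw [← conj_mul, hg2]
      rw [hxv, (h.comm_sylow T ht hv).eq, ← mul_assoc, h.sq_sylow T v hv, one_mul]
    intro q hq hqv
    by_contra hq1
    have hqcore := hfix v hv hv1 q hq hqv.symm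
    have hcore1 : ∀ {w : G}, w ∈ core t ↔ g * w * g⁻¹ ∈ core v := h.conj_core hg ht ht1
    have hcore2 : ∀ {w : G}, w ∈ core v ↔ g * w * g⁻¹ ∈ core x := fun {w} => by
      rw [h.conj_core hg hv hv1 (x := w), hg2]
    have hcore3 : ∀ {w : G}, w ∈ core x ↔ g * w * g⁻¹ ∈ core t := fun {w} => by
      rw [h.conj_core hg hx hx1 (x := w), hg3]
    have hpre : ∀ {w : G}, w ∈ core v → g⁻¹ * w * g ∈ core t := fun {w} hw => by
      rw [hcore1]; rwa [show g * (g⁻¹ * w * g) * g⁻¹ = w by group]
    have hWv : ∀ w ∈ core t, ∀ w' ∈ core v, Commute w w' := by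
      intro w hw w' hw'
      -- `w` lies in the conjugate of `Q` centralising `q`
      set q₀ := g⁻¹ * q * g with hq₀
      have hq₀W : q₀ ∈ core t := hpre hqcore
      have hq₀1 : q₀ ≠ 1 := fun e => hq1 (by
        rw [show q = g * q₀ * g⁻¹ by rw [hq₀]; group, e, mul_one, mul_inv_cancel])
      obtain ⟨P, -, -, hPmem, -⟩ := h.sylow_central hI (hord ht ht1 hq₀W hq₀1)
      have hQP : (P : Subgroup G) = (Q : Subgroup G) := Q.is_maximal' P.2 fun a ha =>
        hPmem a (hWZ q₀ hq₀W a ha).symm (hQodd ha)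
      have hwQ : g⁻¹ * w * g ∈ (Q : Subgroup G) := by
        rw [← hQP]
        refine hPmem _ ?_ ?_
        · have := (Commute.conj_iff g⁻¹).2 (hWZ w hw q hq)
          rwa [inv_inv] at this
        · have := orderOf_conj_eq g⁻¹ w
          rw [inv_inv] at this
          rw [this]
          exact odd_orderOf_of_mem (odd_core t) hw
      have := (Commute.conj_iff g).2 (hWZ _ (hpre hw') _ hwQ).symm
      rwa [show g * (g⁻¹ * w * g) * g⁻¹ = w by group, show g * (g⁻¹ * w' * g) * g⁻¹ = w' by group] at this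
    have hVx : ∀ w ∈ core v, ∀ w' ∈ core x, Commute w w' := by
      intro w hw w' hw'
      have hw0 := hpre hw
      have hw'0 : g⁻¹ * w' * g ∈ core v := by
        rw [hcore2]; rwa [show g * (g⁻¹ * w' * g) * g⁻¹ = w' by group]
      have := (Commute.conj_iff g).2 (hWv _ hw0 _ hw'0)
      rwa [show g * (g⁻¹ * w * g) * g⁻¹ = w by group, show g * (g⁻¹ * w' * g) * g⁻¹ = w' by group] at this
    have hvQ : ∀ w ∈ core v, w ∈ (Q : Subgroup G) := fun w hw =>
      hQmem w (hWv y hyW w hw).symm (odd_orderOf_of_mem (odd_core v) hw)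
    -- `core v` is central in `Q`
    have hcent : ∀ w ∈ core v, ∀ a ∈ (Q : Subgroup G), Commute w a := by
      intro w hw
      have hQle : (Q : Subgroup G) ≤ Subgroup.centralizer ({w} : Set G) := by
        rw [CfsgLib.Comp.eq_iSup_centralizer_hyperplane (p := 2) (A := (T : Subgroup G))
          ⟨⟨⟨fun a b => Subtype.ext (h.comm_sylow T a.2 b.2).eq⟩⟩,
            fun a ha => by rw [pow_two]; exact h.sq_sylow T a ha⟩
          (fun e => ht1 ((Subgroup.eq_bot_iff_forall _).1 e t ht))
          (fun hd => by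
            obtain ⟨n, hn⟩ := IsPGroup.iff_card.1 Q.2
            rw [hn] at hd
            exact h.ne_two.1 ((Nat.prime_dvd_prime_iff_eq Nat.prime_two h.hp).1
              (Nat.prime_two.dvd_of_dvd_pow hd)).symm) hTN]
        refine iSup_le fun B => fun a ha => ?_
        obtain ⟨haQ, haB⟩ := ha
        obtain ⟨b, hb, hb1⟩ : ∃ b ∈ (B : Subgroup G), b ≠ 1 := by
          refine CfsgLib.Comp.exists_mem_ne_one fun e => ?_
          have := B.2.2
          rw [e, Subgroup.relIndex_bot_left, h4] at this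
          omega
        have hbT := B.2.1 hb
        have hab' := hfix b hbT hb1 a haQ (Subgroup.mem_centralizer_iff.1 haB b hb).symm
        refine Subgroup.mem_centralizer_singleton_iff.2 ?_
        rcases four_cases h4 ht hv (h.sq_sylow T t ht) ht1 hv1 (Ne.symm hgt) b hbT with e | e | e | e
        · exact absurd e hb1
        · exact (hWv a (e ▸ hab') w hw).eq
        · exact ((h.core_facts hI hv hv1).2.1 a (e ▸ hab') w hw).eq
        · have e' : b = x := e
          exact (hVx w hw a (e' ▸ hab')).symm.eq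
      exact fun a ha => (Subgroup.mem_centralizer_singleton_iff.1 (hQle ha)).symm
    have hqW := hZt q hq (hcent q hqcore)
    refine not_self_inv (hQodd hq) hq1 ?_
    rw [← hinvW v hv hv1 hgt q hqW, hqv.eq, mul_assoc, h.sq_sylow T v hv, mul_one]
  obtain ⟨f, hf, hfn⟩ := h.exists_rotation hI T
  set s := f * t * f⁻¹ with hs'
  have hs : s ∈ (T : Subgroup G) := (Subgroup.mem_normalizer_iff.1 hf t).1 ht
  have hs1 : s ≠ 1 := fun e => ht1 (conj_eq_one_iff.1 e)
  have hst : s ≠ t := hfn t ht ht1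
  have hts1 : t * s ≠ 1 := fun e => hst (mul_left_cancel ((h.sq_sylow T t ht).trans e.symm)).symm
  have hfs : f * s * f⁻¹ = t * s := by
    rcases four_cases h4 ht hs (h.sq_sylow T t ht) ht1 hs1 (Ne.symm hst) (f * s * f⁻¹)
      ((Subgroup.mem_normalizer_iff.1 hf s).1 hs) with e | e | e | e
    · exact absurd (conj_eq_one_iff.1 e) hs1
    · refine absurd ?_ (hfn (t * s) (mul_mem ht hs) hts1)
      rw [← conj_mul, e, ← hs', (h.comm_sylow T hs ht).eq]
    · exact absurd e (hfn s hs hs1)
    · exact e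
  have hff : f * f * t * (f * f)⁻¹ = t * s := by
    rw [show f * f * t * (f * f)⁻¹ = f * (f * t * f⁻¹) * f⁻¹ by group]; exact hfs
  have hfree1 := hfree f hf hst hfs
  have hfree2 := hfree (f * f) (mul_mem hf hf) (fun e => hs1 (mul_eq_left.1 (hff ▸ e))) (by
    rw [hff, ← conj_mul, hff, show f * f * s * (f * f)⁻¹ = f * (f * s * f⁻¹) * f⁻¹ by group, hfs,
      ← conj_mul, hfs]
    show t * s * (s * (t * s)) = t * (t * s)
    rw [show t * s * (s * (t * s)) = t * (s * s) * (t * s) by group, h.sq_sylow T s hs, mul_one])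
  rw [hff] at hfree2
  rw [← hs'] at hfree1
  have hinvQ : ∀ a ∈ (T : Subgroup G), (∀ q ∈ (Q : Subgroup G), Commute a q → q = 1) →
      ∀ q ∈ (Q : Subgroup G), a * q * a = q⁻¹ := fun a ha hh =>
    CfsgLib.Recog.SymEight.inverts_of_no_fixed (h.sq_sylow T a ha)
      (fun q hq => by have := hTQ a ha q hq; rwa [hainv ha] at this) hh
  refine h.no_full ht1 T Q (fun a ha => h.comm_sylow T ha ht) fun q hq => ?_
  have e1 := hinvQ s hs hfree1 q hq
  have e2 := hinvQ (t * s) (mul_mem ht hs) hfree2 q hq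
  rw [show t * s * q * (t * s) = t * s * q * (s * t) by rw [(h.comm_sylow T ht hs).eq],
    show t * s * q * (s * t) = t * (s * q * s) * t by group, e1] at e2
  show q * t = t * q
  have hc : Commute q⁻¹ t := by
    show q⁻¹ * t = t * q⁻¹
    nth_rewrite 1 [← e2]
    rw [mul_assoc, h.sq_sylow T t ht, mul_one]
  exact (hc.inv_left).eq |> fun e => by simpa using e

/-- No simple group has the element orders `1, 2, p, r, 2p` with five automorphism orbits. -/
theorem false : False :=
  (Classical.em h.CaseI).elim h.false_of_caseI h.false_of_not_caseI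

end Spec

end CfsgLib.FiveOrbit
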