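import Cfsg.Agent.Lib.FiveOrbit.CaseOne
import Cfsg.Agent.Lib.PLocal.Section
import Cfsg.Agent.Lib.StructC.BurnsideBasis

/-!
# The odd core of an involution centraliser

When no involution centraliser has a normal Sylow 2-subgroup, `W = O(C(t))` is centralised by
exactly a subgroup of index two of a Sylow 2-subgroup `T ∋ t`, whence `|T| = 4`.
-/

set_option autoImplicit false
set_option linter.unusedSectionVars false
set_option linter.style.haveILetI false

namespace CfsgLib.FiveOrbit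

open Subgroup CfsgLib.Invol CfsgLib.EqOrder

variable {G : Type*} [Group G] [Finite G] {p r : ℕ}

/-- The odd core of the centraliser of `t`. -/
def core (t : G) : Subgroup G :=
  (Cfsg.oddCore (Subgroup.centralizer ({t} : Set G))).map (Subgroup.centralizer ({t} : Set G)).subtype

theorem core_le (t : G) : core t ≤ Subgroup.centralizer ({t} : Set G) := map_subtype_le _

theorem core_commute {t w : G} (hw : w ∈ core t) : Commute w t :=
  Subgroup.mem_centralizer_singleton_iff.1 (core_le t hw)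

theorem odd_core (t : G) : Odd (Nat.card (core t)) := by
  rw [core, card_map_of_injective (Subgroup.subtype_injective _)]
  exact odd_card_oddCore _

theorem core_normal {t c w : G} (hc : Commute c t) (hw : w ∈ core t) : c * w * c⁻¹ ∈ core t := by
  obtain ⟨w', hw', rfl⟩ := hw
  exact ⟨⟨c, Subgroup.mem_centralizer_singleton_iff.2 hc.eq⟩ * w' *
    ⟨c, Subgroup.mem_centralizer_singleton_iff.2 hc.eq⟩⁻¹,
    (normal_oddCore _).conj_mem w' hw' _, rfl⟩

theorem card_oddCore_le {X Y : Type*} [Group X] [Group Y] [Finite X] [Finite Y] (e : X ≃* Y) :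
    Nat.card (Cfsg.oddCore X) ≤ Nat.card (Cfsg.oddCore Y) := by
  have hc : Nat.card ((Cfsg.oddCore X).map e.toMonoidHom) = Nat.card (Cfsg.oddCore X) :=
    card_map_of_injective e.injective
  have hn : ((Cfsg.oddCore X).map e.toMonoidHom).Normal :=
    Subgroup.Normal.map (normal_oddCore X) _ e.surjective
  rw [← hc]
  exact Subgroup.card_le_of_le (le_oddCore hn (by rw [hc]; exact odd_card_oddCore X))

/-- A subgroup of index at most two contains the product of two elements outside it. -/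
theorem mul_mem_of_half {A S : Subgroup G} (hSA : S ≤ A) (hcard : Nat.card A ≤ 2 * Nat.card S)
    {a b : G} (ha : a ∈ A) (hb : b ∈ A) (ha' : a ∉ S) (hb' : b ∉ S) : a * b ∈ S := by
  have hi : (S.subgroupOf A).index = 2 := by
    have h1 := (S.subgroupOf A).card_mul_index
    rw [Nat.card_congr (subgroupOfEquivOfLe hSA).toEquiv] at h1
    have hle : (S.subgroupOf A).index ≤ 2 := by
      by_contra hlt
      have := Nat.mul_le_mul_left (Nat.card S) (show 3 ≤ (S.subgroupOf A).index by omega)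
      have := Nat.card_pos (α := S)
      omega
    have h0 := Subgroup.index_ne_zero_of_finite (H := S.subgroupOf A)
    have h1' : (S.subgroupOf A).index ≠ 1 := fun e => ha' (Subgroup.mem_subgroupOf.1
      ((Subgroup.index_eq_one.1 e).ge (Subgroup.mem_top (⟨a, ha⟩ : A))))
    omega
  have := (Subgroup.mul_mem_iff_of_index_two hi (a := ⟨a, ha⟩) (b := ⟨b, hb⟩)).2
    (iff_of_false (fun hh => ha' (Subgroup.mem_subgroupOf.1 hh)) fun hh => hb' (Subgroup.mem_subgroupOf.1 hh))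
  exact Subgroup.mem_subgroupOf.1 this

theorem mem_NH_of_conj_le {T : Sylow 2 G} {g : G}
    (hg : ∀ a ∈ (T : Subgroup G), g * a * g⁻¹ ∈ (T : Subgroup G)) : g ∈ NH T := by
  refine Subgroup.mem_normalizer_iff.2 fun b => ⟨hg b, fun hb => ?_⟩
  let f : ↥(T : Subgroup G) → ↥(T : Subgroup G) := fun b => ⟨g * (b : G) * g⁻¹, hg b b.2⟩
  have hf : Function.Injective f := fun a b e =>
    Subtype.ext (by simpa [f] using congrArg Subtype.val e)
  obtain ⟨c, hc⟩ := Finite.injective_iff_surjective.1 hf ⟨_, hb⟩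
  have hcb : g * (c : G) * g⁻¹ = g * b * g⁻¹ := congrArg Subtype.val hc
  have : (c : G) = b := by simpa using hcb
  rw [← this]; exact c.2

namespace Spec

variable (h : Spec G p r)
include h

theorem caseI_of_one {T : Sylow 2 G} {t : G} (ht : t ∈ (T : Subgroup G)) (ht1 : t ≠ 1)
    (hn : ∀ c : G, Commute c t → c ∈ NH T) : h.CaseI := by
  haveI : Fact (Nat.Prime 2) := ⟨Nat.prime_two⟩
  intro T' t' ht' ht1' c hc
  obtain ⟨σ, hσ⟩ := h.orbit t' t (by
    rw [invol_of_mul_self (h.sq_sylow T' t' ht') ht1', invol_of_mul_self (h.sq_sylow T t ht) ht1])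
  -- the image of `T'` is `T`
  have hmem : ∀ a ∈ (T' : Subgroup G), σ a ∈ (T : Subgroup G) := fun a ha => by
    refine CAHyp.mem_T_of_sq (hn _ ?_) (by rw [← map_mul, h.sq_sylow T' a ha, map_one])
    rw [← hσ]
    exact (h.comm_sylow T' ha ht').map σ.toMonoidHom
  have hcardT : Nat.card (T' : Subgroup G) = Nat.card (T : Subgroup G) := by
    rw [T'.card_eq_multiplicity, T.card_eq_multiplicity]
  have hsurj : ∀ b ∈ (T : Subgroup G), ∃ a ∈ (T' : Subgroup G), σ a = b := by
    intro b hb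
    have hf : Function.Bijective fun a : (T' : Subgroup G) => (⟨σ a, hmem a a.2⟩ : (T : Subgroup G)) :=
      Function.Injective.bijective_of_nat_card_le
        (fun a a' e => Subtype.ext (σ.injective (congrArg Subtype.val e))) hcardT.ge
    obtain ⟨a, ha⟩ := hf.2 ⟨b, hb⟩
    exact ⟨a, a.2, congrArg Subtype.val ha⟩
  refine mem_NH_of_conj_le fun a ha => ?_
  have h1 := (Subgroup.mem_normalizer_iff.1 (hn (σ c) (hσ ▸ hc.map σ.toMonoidHom)) (σ a)).1 (hmem a ha)
  rw [← map_inv, ← map_mul, ← map_mul] at h1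
  obtain ⟨a', ha', he⟩ := hsurj _ h1
  exact σ.injective he ▸ ha'

theorem isPGroup_core {t : G} (ht : orderOf t = 2) : IsPGroup p (core t) := by
  refine IsPGroup.of_card (Nat.eq_prime_pow_of_unique_prime_dvd Nat.card_pos.ne' fun {q} hq hd => ?_)
  rcases h.prime_dvd_card hq (hd.trans (core t).card_subgroup_dvd_card) with rfl | rfl | rfl
  · exact absurd (even_iff_two_dvd.2 hd) (Nat.not_even_iff_odd.2 (odd_core t))
  · rfl
  · exact absurd (hd.trans (Subgroup.card_dvd_of_le (core_le t))) (h.not_r_dvd_centralizer ht)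

theorem order_core {t w : G} (ht : orderOf t = 2) (hw : w ∈ core t) (hw1 : w ≠ 1) : orderOf w = p := by
  refine (h.order_of_odd (odd_orderOf_of_mem (odd_core t) hw) hw1).resolve_right fun e => ?_
  exact h.not_r_dvd_centralizer ht (e ▸ Subgroup.orderOf_dvd_natCard _ (core_le t hw))

theorem card_core_eq {t t' : G} (ht : orderOf t = 2) (ht' : orderOf t' = 2) :
    Nat.card (core t) = Nat.card (core t') := by
  obtain ⟨σ, rfl⟩ := h.orbit t t' (ht.trans ht'.symm)
  let e : Subgroup.centralizer ({t} : Set G) ≃* Subgroup.centralizer ({σ t} : Set G) :=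
    { toFun := fun c => ⟨σ c, Subgroup.mem_centralizer_singleton_iff.2 (by
          rw [← map_mul, ← map_mul, Subgroup.mem_centralizer_singleton_iff.1 c.2])⟩
      invFun := fun c => ⟨σ.symm c, Subgroup.mem_centralizer_singleton_iff.2 (σ.injective (by
          rw [map_mul, map_mul, MulEquiv.apply_symm_apply, Subgroup.mem_centralizer_singleton_iff.1 c.2]))⟩
      left_inv := fun c => Subtype.ext (σ.symm_apply_apply c)
      right_inv := fun c => Subtype.ext (σ.apply_symm_apply c)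
      map_mul' := fun a b => Subtype.ext (map_mul σ _ _) }
  rw [core, core, card_map_of_injective (Subgroup.subtype_injective _),
    card_map_of_injective (Subgroup.subtype_injective _)]
  exact le_antisymm (card_oddCore_le e) (card_oddCore_le e.symm)

/-- `C(t)` modulo its odd core: `T` is normal and self-centralising there. -/
theorem mod_core {T : Sylow 2 G} {t : G} (ht : t ∈ (T : Subgroup G)) (ht1 : t ≠ 1) :
    (∀ c a : G, Commute c t → a ∈ (T : Subgroup G) → ∃ a' ∈ (T : Subgroup G), a'⁻¹ * (c * a * c⁻¹) ∈ core t) ∧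
    (∀ b : G, Commute b t → b * b = 1 → ∃ a' ∈ (T : Subgroup G), a'⁻¹ * b ∈ core t) ∧
    (∀ x : G, Commute x t → (∀ a ∈ (T : Subgroup G), x * a * x⁻¹ * a⁻¹ ∈ core t) →
      ∃ a' ∈ (T : Subgroup G), a'⁻¹ * x ∈ core t) := by
  haveI : Fact (Nat.Prime 2) := ⟨Nat.prime_two⟩
  set C := Subgroup.centralizer ({t} : Set G) with hC
  have hto := invol_of_mul_self (h.sq_sylow T t ht) ht1
  haveI : Group.IsSolvable C := h.isSolvable_of_not_dvd (h.not_r_dvd_centralizer hto)
  set W := Cfsg.oddCore C with hW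
  haveI : W.Normal := normal_oddCore C
  have hTC : (T : Subgroup G) ≤ C := fun a ha =>
    Subgroup.mem_centralizer_singleton_iff.2 (h.comm_sylow T ha ht).eq
  haveI : Group.IsSolvable (C ⧸ W) := Group.isSolvable_of_surjective (QuotientGroup.mk'_surjective W)
  set T₁ : Sylow 2 C := T.subtype hTC
  set Tb : Sylow 2 (C ⧸ W) := T₁.mapSurjective (f := QuotientGroup.mk' W) (QuotientGroup.mk'_surjective W)
  have hab : ∀ a ∈ (Tb : Subgroup (C ⧸ W)), ∀ b ∈ (Tb : Subgroup (C ⧸ W)), a * b = b * a := by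
    rintro _ ⟨a, ha, rfl⟩ _ ⟨b, hb, rfl⟩
    rw [← map_mul, ← map_mul]
    exact congrArg _ (Subtype.ext (h.comm_sylow T (Subgroup.mem_subgroupOf.1 ha)
      (Subgroup.mem_subgroupOf.1 hb)).eq)
  obtain ⟨hn, hself⟩ := normal_of_oddCore_bot (CfsgLib.Fusion.oddCore_quotient_oddCore (G := C)) Tb hab
  have hback : ∀ x : C, ((x : C ⧸ W)) ∈ (Tb : Subgroup (C ⧸ W)) →
      ∃ a' ∈ (T : Subgroup G), a'⁻¹ * (x : G) ∈ core t := by
    rintro x ⟨a, ha, hax⟩
    exact ⟨a, Subgroup.mem_subgroupOf.1 ha, ⟨a⁻¹ * x, QuotientGroup.eq.1 hax, rfl⟩⟩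
  have hmemT : ∀ (a : G) (ha : a ∈ (T : Subgroup G)), ((⟨a, hTC ha⟩ : C) : C ⧸ W) ∈ (Tb : Subgroup (C ⧸ W)) :=
    fun a ha => ⟨⟨a, hTC ha⟩, Subgroup.mem_subgroupOf.2 ha, rfl⟩
  refine ⟨fun c a hc ha => ?_, fun b hb hbb => ?_, fun x hx hxa => ?_⟩
  · exact hback (⟨c, Subgroup.mem_centralizer_singleton_iff.2 hc.eq⟩ * ⟨a, hTC ha⟩ *
      ⟨c, Subgroup.mem_centralizer_singleton_iff.2 hc.eq⟩⁻¹) (by
      simp only [QuotientGroup.mk_mul, QuotientGroup.mk_inv]
      exact hn.conj_mem _ (hmemT a ha) _)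
  · set b' : C := ⟨b, Subgroup.mem_centralizer_singleton_iff.2 hb.eq⟩
    refine hback b' ?_
    by_cases hb1 : (b' : C ⧸ W) = 1
    · rw [hb1]; exact one_mem _
    have hbo : orderOf (b' : C ⧸ W) = 2 := invol_of_mul_self (by
      rw [← QuotientGroup.mk_mul, show b' * b' = 1 from Subtype.ext hbb]; rfl) hb1
    obtain ⟨g, hg⟩ := exists_conj_invol_mem_sylow Tb hbo
    have := hn.conj_mem _ hg g⁻¹
    rwa [show g⁻¹ * (g * (b' : C ⧸ W) * g⁻¹) * g⁻¹⁻¹ = (b' : C ⧸ W) by group] at this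
  · set x' : C := ⟨x, Subgroup.mem_centralizer_singleton_iff.2 hx.eq⟩
    refine hback x' (hself _ fun a ha => ?_)
    obtain ⟨a, ha', rfl⟩ := ha
    obtain ⟨w, hw, hwe⟩ := hxa a (Subgroup.mem_subgroupOf.1 ha')
    have hh : x' * a * x'⁻¹ * a⁻¹ ∈ W := by
      have : w = x' * a * x'⁻¹ * a⁻¹ := Subtype.ext hwe
      rwa [← this]
    have h2 : ((x' * a * x'⁻¹ * a⁻¹ : C) : C ⧸ W) = 1 := (QuotientGroup.eq_one_iff _).2 hh
    simp only [QuotientGroup.mk_mul, QuotientGroup.mk_inv] at h2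
    exact mul_inv_eq_iff_eq_mul.1 (mul_inv_eq_one.1 h2)

/-- An odd subgroup of `C(t)` normalised by `T` lies in the odd core. -/
theorem le_core {T : Sylow 2 G} {t : G} (ht : t ∈ (T : Subgroup G)) (ht1 : t ≠ 1) {Y : Subgroup G}
    (hY : Odd (Nat.card Y)) (hYt : ∀ y ∈ Y, Commute y t)
    (hYT : ∀ a ∈ (T : Subgroup G), ∀ y ∈ Y, a * y * a⁻¹ ∈ Y) : Y ≤ core t := by
  obtain ⟨hconj, -, hself⟩ := h.mod_core ht ht1
  intro y hy
  have hodd : ∀ z ∈ Y, ∀ a' ∈ (T : Subgroup G), a'⁻¹ * z ∈ core t → z ∈ core t := by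
    intro z hz a' ha' hm
    have hco : Nat.Coprime 2 (orderOf z) := Nat.coprime_two_left.2 (odd_orderOf_of_mem hY hz)
    obtain ⟨k, hk⟩ := exists_pow_eq_self_of_coprime hco
    rw [← hk]
    refine pow_mem ?_ k
    have h1 : z ^ 2 = (a' * (a'⁻¹ * z) * a'⁻¹) * ((a' * a') * (a'⁻¹ * z)) := by
      rw [pow_two]; group
    rw [h1, h.sq_sylow T a' ha', one_mul]
    exact mul_mem (core_normal (h.comm_sylow T ha' ht) hm) hm
  obtain ⟨a', ha', hm⟩ := hself y (hYt y hy) fun a ha => by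
    have hz : y * a * y⁻¹ * a⁻¹ ∈ Y := by
      have := mul_mem hy (hYT a ha _ (inv_mem hy))
      simpa [mul_assoc] using this
    obtain ⟨a', ha', hm⟩ := hconj y a (hYt y hy) ha
    refine hodd _ hz (a' * a⁻¹) (mul_mem ha' (inv_mem ha)) ?_
    have hac : Commute a t := h.comm_sylow T ha ht
    rw [show (a' * a⁻¹)⁻¹ * (y * a * y⁻¹ * a⁻¹) = a * (a'⁻¹ * (y * a * y⁻¹)) * a⁻¹ by group]
    exact core_normal hac hm
  exact hodd y hy a' ha' hm

/-- `T` does not centralise the odd core. -/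
theorem exists_noncommute (hI : ¬ h.CaseI) {T : Sylow 2 G} {t : G} (ht : t ∈ (T : Subgroup G))
    (ht1 : t ≠ 1) : ∃ a ∈ (T : Subgroup G), ∃ w ∈ core t, ¬ Commute a w := by
  by_contra hne
  push Not at hne
  refine hI (h.caseI_of_one ht ht1 fun c hc => mem_NH_of_conj_le fun a ha => ?_)
  obtain ⟨a', ha', hm⟩ := (h.mod_core ht ht1).1 c a hc ha
  generalize hw : a'⁻¹ * (c * a * c⁻¹) = w at hm
  have he : c * a * c⁻¹ = a' * w := by rw [← hw, mul_inv_cancel_left]
  have h2 : c * a * c⁻¹ * (c * a * c⁻¹) = 1 := by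
    rw [conj_mul, h.sq_sylow T a ha, mul_one, mul_inv_cancel]
  rw [he] at h2
  have hcm : Commute a' w := hne a' ha' w hm
  have hw1 : w = 1 := eq_one_of_sq (by
    calc w * w = (a' * a') * (w * w) := by rw [h.sq_sylow T a' ha', one_mul]
      _ = a' * (a' * w) * w := by group
      _ = a' * (w * a') * w := by rw [hcm.eq]
      _ = 1 := by rw [← h2]; group) (odd_orderOf_of_mem (odd_core t) hm)
  rw [he, hw1, mul_one]
  exact ha'

/-- No element of the core is centralised by `T`. -/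
theorem eq_one_of_centralised {T : Sylow 2 G} {t w : G} (ht : orderOf t = 2) (hw : w ∈ core t)
    (hc : ∀ a ∈ (T : Subgroup G), Commute a w) : w = 1 := by
  by_contra hw1
  haveI := Fact.mk h.hp
  obtain ⟨P, hP, -⟩ := h.exists_sylow_le (h.order_core ht hw hw1)
  exact h.no_full hw1 T P hc fun a ha => Subgroup.mem_centralizer_singleton_iff.1 (hP ha)

/-- Some nontrivial element of the core is centralised by half of `T`. -/
theorem exists_eigen (hI : ¬ h.CaseI) {T : Sylow 2 G} {t : G} (ht : t ∈ (T : Subgroup G))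
    (ht1 : t ≠ 1) : ∃ y ∈ core t, y ≠ 1 ∧
      Nat.card (T : Subgroup G) ≤ 2 * Nat.card ((T : Subgroup G) ⊓ Subgroup.centralizer ({y} : Set G) : Subgroup G) := by
  classical
  haveI := Fact.mk h.hp
  have hto := invol_of_mul_self (h.sq_sylow T t ht) ht1
  obtain ⟨a₀, ha₀, w₀, hw₀, hnc⟩ := h.exists_noncommute hI ht ht1
  haveI : Nontrivial (core t) := ⟨⟨⟨w₀, hw₀⟩, 1, fun e => hnc (by
    rw [show w₀ = 1 from congrArg Subtype.val e]; exact Commute.one_right _)⟩⟩
  haveI := (h.isPGroup_core hto).center_nontrivial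
  -- the centre, as a `T`-invariant set
  set Z := fun y : G => y ∈ core t ∧ ∀ w ∈ core t, Commute y w with hZ
  have hZT : ∀ a ∈ (T : Subgroup G), ∀ y, Z y → Z (a * y * a⁻¹) := by
    intro a ha y hy
    have hat := h.comm_sylow T ha ht
    refine ⟨core_normal hat hy.1, fun w hw => ?_⟩
    have h1 := hy.2 _ (core_normal hat.inv_left hw)
    have h2 := (Commute.conj_iff a).2 h1
    rwa [show a * (a⁻¹ * w * a⁻¹⁻¹) * a⁻¹ = w by group] at h2
  obtain ⟨⟨⟨y₁, hy₁⟩, hy₁c⟩, hy₁1⟩ := exists_ne (1 : Subgroup.center (core t))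
  have hy₁Z : Z y₁ := ⟨hy₁, fun w hw =>
    (congrArg Subtype.val (Subgroup.mem_center_iff.1 hy₁c ⟨w, hw⟩)).symm⟩
  haveI := Fintype.ofFinite G
  let S := fun y : G => (T : Subgroup G) ⊓ Subgroup.centralizer ({y} : Set G)
  obtain ⟨y, hy, hmax⟩ := (Finset.univ.filter fun y : G => Z y ∧ y ≠ 1).exists_max_image
    (fun y => Nat.card (S y)) ⟨y₁, Finset.mem_filter.2 ⟨Finset.mem_univ _, hy₁Z,
      fun e => hy₁1 (Subtype.ext (Subtype.ext e))⟩⟩
  obtain ⟨-, hyZ, hy1⟩ := Finset.mem_filter.1 hy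
  refine ⟨y, hyZ.1, hy1, ?_⟩
  -- every element of `T` fixes or inverts `y`
  have hpm : ∀ a ∈ (T : Subgroup G), a * y * a⁻¹ = y ∨ a * y * a⁻¹ = y⁻¹ := by
    intro a ha
    by_contra hne
    push Not at hne
    have hinv : a⁻¹ = a := inv_eq_of_mul_eq_one_right (h.sq_sylow T a ha)
    have hcm : Commute y (a * y * a⁻¹) := hyZ.2 _ (hZT a ha y hyZ).1
    set y' := y * (a * y * a⁻¹) with hy'
    have hy'Z : Z y' := ⟨mul_mem hyZ.1 (hZT a ha y hyZ).1, fun w hw =>
      (hyZ.2 w hw).mul_left ((hZT a ha y hyZ).2 w hw)⟩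
    have hy'1 : y' ≠ 1 := fun e => hne.2 (eq_inv_of_mul_eq_one_right e)
    have hlt : S y < S y' := by
      refine lt_of_le_of_ne (fun b hb => ⟨hb.1, Subgroup.mem_centralizer_singleton_iff.2 ?_⟩) fun e => hne.1 ?_
      · have hby : Commute b y := Subgroup.mem_centralizer_singleton_iff.1 hb.2
        have hba : Commute b a := h.comm_sylow T hb.1 ha
        exact (hby.mul_right ((hba.mul_right hby).mul_right hba.inv_right)).eq
      · have haS : a ∈ S y' := ⟨ha, Subgroup.mem_centralizer_singleton_iff.2 (by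
          calc a * (y * (a * y * a⁻¹)) = (a * y * a⁻¹) * ((a * a) * y * a⁻¹) := by group
            _ = (a * y * a⁻¹) * y * a⁻¹ := by rw [h.sq_sylow T a ha, one_mul]; simp only [mul_assoc]
            _ = y * (a * y * a⁻¹) * a := by rw [← hcm.eq, hinv])⟩
        rw [← e] at haS
        have hay : Commute a y := Subgroup.mem_centralizer_singleton_iff.1 haS.2
        rw [hay.eq, mul_inv_cancel_right]
    have h1 := hmax y' (Finset.mem_filter.2 ⟨Finset.mem_univ _, hy'Z, hy'1⟩)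
    exact hlt.ne (Subgroup.eq_of_le_of_card_ge hlt.le h1)
  by_contra hlt
  replace hlt : ¬ Nat.card (T : Subgroup G) ≤ 2 * Nat.card (S y) := hlt
  obtain ⟨a, ha, haS⟩ : ∃ a ∈ (T : Subgroup G), a ∉ S y := by
    by_contra hne
    push Not at hne
    have := Subgroup.card_le_of_le (show (T : Subgroup G) ≤ S y from hne)
    omega
  have hS : ∀ b ∈ (T : Subgroup G), b ∈ S y ∨ a * b ∈ S y := by
    intro b hb
    have hfix : ∀ c ∈ (T : Subgroup G), c * y * c⁻¹ = y → c ∈ S y := fun c hc e =>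
      ⟨hc, Subgroup.mem_centralizer_singleton_iff.2 (mul_inv_eq_iff_eq_mul.1 e)⟩
    rcases hpm b hb with e | e
    · exact Or.inl (hfix b hb e)
    · rcases hpm a ha with e' | e'
      · exact absurd (hfix a ha e') haS
      · refine Or.inr (hfix _ (mul_mem ha hb) ?_)
        rw [mul_inv_rev, show a * b * y * (b⁻¹ * a⁻¹) = a * (b * y * b⁻¹) * a⁻¹ by group, e, ← conj_inv,
          e', inv_inv]
  have hle : Nat.card (T : Subgroup G) ≤ 2 * Nat.card (S y) := by
    let f : (S y) × Bool → (T : Subgroup G) := fun q =>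
      if q.2 then ⟨a⁻¹ * q.1, mul_mem (inv_mem ha) q.1.2.1⟩ else ⟨q.1, q.1.2.1⟩
    have hf : Function.Surjective f := fun b => by
      rcases hS b b.2 with hb | hb
      · exact ⟨(⟨b, hb⟩, false), rfl⟩
      · exact ⟨(⟨_, hb⟩, true), Subtype.ext (by simp [f])⟩
    have := Nat.card_le_card_of_surjective f hf
    rwa [Nat.card_prod, Nat.card_eq_fintype_card (α := Bool), Fintype.card_bool, mul_comm] at this
  exact hlt hle

/-- A subgroup of index at most two in `T` centralises the core. -/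
theorem exists_hyperplane (hI : ¬ h.CaseI) {T : Sylow 2 G} {t : G} (ht : t ∈ (T : Subgroup G))
    (ht1 : t ≠ 1) :
    ∃ B : Subgroup G, B ≤ (T : Subgroup G) ∧ 2 * Nat.card B = Nat.card (T : Subgroup G) ∧ t ∈ B ∧
      ∀ a ∈ (T : Subgroup G), (a ∈ B ↔ ∀ w ∈ core t, Commute a w) := by
  classical
  haveI := Fact.mk h.hp
  haveI : Fact (Nat.Prime 2) := ⟨Nat.prime_two⟩
  have hto := invol_of_mul_self (h.sq_sylow T t ht) ht1
  obtain ⟨y₀, hy₀, hy₀1, hy₀card⟩ := h.exists_eigen hI ht ht1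
  set W := core t with hWdef
  have hWp := h.isPGroup_core hto
  have hTN : ∀ a ∈ (T : Subgroup G), a ∈ normalizer (W : Set G) := fun a ha => by
    have hat := h.comm_sylow T ha ht
    refine Subgroup.mem_normalizer_iff.2 fun w => ⟨core_normal hat, fun hw => ?_⟩
    have := core_normal hat.inv_left hw
    simpa [mul_assoc] using this
  set Φ := (frattini W).map W.subtype with hΦ
  -- every coset of the Frattini subgroup is fixed by half of `T`
  have hbig : ∀ y ∈ W, ∃ U : Subgroup G, U ≤ (T : Subgroup G) ∧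
      Nat.card (T : Subgroup G) ≤ 2 * Nat.card U ∧ ∀ a ∈ U, y⁻¹ * a⁻¹ * y * a ∈ Φ := by
    intro y hy
    by_cases hy1 : y = 1
    · exact ⟨(T : Subgroup G), le_rfl, Nat.le_mul_of_pos_left _ two_pos, fun a _ => by
        rw [hy1]; simp⟩
    set C := Subgroup.centralizer ({y} : Set G)
    obtain ⟨V, hV⟩ := (isPGroup_zpowers_of_invol (x := (⟨t, Subgroup.mem_centralizer_singleton_iff.2
      (core_commute hy).symm.eq⟩ : C)) (by rw [← Subgroup.orderOf_coe]; exact hto)).exists_le_sylow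
    have hVcard : Nat.card ((T : Subgroup G) ⊓ Subgroup.centralizer ({y₀} : Set G) : Subgroup G) ≤
        Nat.card (V : Subgroup C) := by
      obtain ⟨k, hk⟩ := IsPGroup.iff_card.1
        (T.2.to_le (inf_le_left : (T : Subgroup G) ⊓ Subgroup.centralizer ({y₀} : Set G) ≤ _))
      have h1 := Subgroup.card_dvd_of_le
        (inf_le_right : (T : Subgroup G) ⊓ Subgroup.centralizer ({y₀} : Set G) ≤ _)
      rw [hk, h.card_centralizer_eq ((h.order_core hto hy₀ hy₀1).trans (h.order_core hto hy hy1).symm)] at h1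
      rw [hk, V.card_eq_multiplicity]
      exact Nat.pow_le_pow_right two_pos ((Nat.prime_two.pow_dvd_iff_le_factorization Nat.card_pos.ne').1 h1)
    set U' := (V : Subgroup C).map C.subtype with hU'
    have hU'2 : IsPGroup 2 U' := V.2.map _
    have htU' : t ∈ U' := ⟨_, hV (mem_zpowers _), rfl⟩
    have hlift : ∀ b ∈ U', ∃ a ∈ (T : Subgroup G), a⁻¹ * b ∈ W := fun b hb => by
      obtain ⟨hc, hbb⟩ := h.commute_of_two_group hU'2 hb htU'
      exact (h.mod_core ht ht1).2.1 b hc hbb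
    let U : Subgroup G :=
      { carrier := {a | a ∈ (T : Subgroup G) ∧ ∃ b ∈ U', a⁻¹ * b ∈ W}
        one_mem' := ⟨one_mem _, 1, one_mem _, by simp⟩
        mul_mem' := by
          rintro a a' ⟨ha, b, hb, hab⟩ ⟨ha', b', hb', hab'⟩
          refine ⟨mul_mem ha ha', b * b', mul_mem hb hb', ?_⟩
          have h1 := (Subgroup.mem_normalizer_iff.1 (hTN a'⁻¹ (inv_mem ha')) _).1 hab
          have := mul_mem h1 hab'
          simpa [mul_assoc] using this
        inv_mem' := by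
          rintro a ⟨ha, b, hb, hab⟩
          refine ⟨inv_mem ha, b⁻¹, inv_mem hb, ?_⟩
          have := (Subgroup.mem_normalizer_iff.1 (hTN a ha) _).1 (inv_mem hab)
          simpa [mul_assoc] using this }
    refine ⟨U, fun a ha => ha.1, ?_, ?_⟩
    · have hcardU : Nat.card (V : Subgroup C) ≤ Nat.card U := by
        rw [show Nat.card (V : Subgroup C) = Nat.card U' from (card_map_of_injective C.subtype_injective).symm]
        choose f hf hfW using hlift
        refine Nat.card_le_card_of_injective (fun b : U' => (⟨f b b.2, hf b b.2, b, b.2, hfW b b.2⟩ : U))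
          fun b b' e => Subtype.ext ?_
        have e' : f b b.2 = f b' b'.2 := congrArg Subtype.val e
        have h1 := mul_mem (inv_mem (hfW b b.2)) (hfW b' b'.2)
        rw [e', show ((f b' b'.2)⁻¹ * (b : G))⁻¹ * ((f b' b'.2)⁻¹ * (b' : G)) = (b : G)⁻¹ * b' by group] at h1
        exact inv_mul_eq_one.1 (eq_one_of_sq
          (h.commute_of_two_group hU'2 (mul_mem (inv_mem b.2) b'.2) htU').2
          (odd_orderOf_of_mem (odd_core t) h1))
      omega
    · rintro a ⟨-, b, ⟨⟨b₀, hb₀⟩, -, rfl⟩, hab⟩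
      have hby : Commute b₀ y := Subgroup.mem_centralizer_singleton_iff.1 hb₀
      have hab' : a⁻¹ * b₀ ∈ W := hab
      clear hab
      generalize hv : a⁻¹ * b₀ = v at hab'
      have hab := hab'
      have he : a = b₀ * v⁻¹ := by rw [← hv]; group
      have hcm := CfsgLib.StructC.comm_mem_frattini hWp (⟨y, hy⟩ : W) (⟨v, hab⟩ : W)⁻¹
      refine ⟨_, hcm, ?_⟩
      show y⁻¹ * v⁻¹⁻¹ * y * v⁻¹ = _
      rw [he, mul_inv_rev, show y⁻¹ * (v⁻¹⁻¹ * b₀⁻¹) * y * (b₀ * v⁻¹) =
        y⁻¹ * v⁻¹⁻¹ * (b₀⁻¹ * (y * b₀)) * v⁻¹ by group, ← hby.eq, inv_mul_cancel_left]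
  -- the action on the Frattini quotient
  haveI : (frattini W).Normal := inferInstance
  let Q := W ⧸ frattini W
  have hQc : ∀ a b : Q, a * b = b * a := by
    intro a b
    obtain ⟨a, rfl⟩ := QuotientGroup.mk_surjective a
    obtain ⟨b, rfl⟩ := QuotientGroup.mk_surjective b
    rw [← QuotientGroup.mk_mul, ← QuotientGroup.mk_mul, QuotientGroup.eq]
    simpa [mul_assoc] using CfsgLib.StructC.comm_mem_frattini hWp b a
  letI : CommGroup Q := { (inferInstance : Group Q) with mul_comm := hQc }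
  have hQo : ∀ d : Q, d⁻¹ = d → d = 1 := fun d hd => by
    have ho : Odd (orderOf d) := Odd.of_dvd_nat (odd_core t)
      ((orderOf_dvd_natCard d).trans (Subgroup.card_quotient_dvd_card _))
    exact eq_one_of_sq (by nth_rewrite 1 [← hd]; exact inv_mul_cancel d) ho
  have hchar : ∀ e : W ≃* W, (frattini W) ≤ (frattini W).comap e.toMonoidHom := fun e =>
    (Subgroup.characteristic_iff_le_comap.1 inferInstance) e
  let act : ↥(T : Subgroup G) → (Q →* Q) := fun a =>
    QuotientGroup.map _ _ (W.normalizerMonoidHom ⟨a, hTN a a.2⟩).toMonoidHom (hchar _)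
  have hact : ∀ (a : (T : Subgroup G)) (y : W),
      act a (y : Q) = ((⟨(a : G) * y * (a : G)⁻¹, core_normal (h.comm_sylow T a.2 ht) y.2⟩ : W) : Q) :=
    fun a y => rfl
  have hactmul : ∀ (a b : (T : Subgroup G)) (d : Q), act (a * b) d = act a (act b d) := by
    intro a b d
    obtain ⟨y, rfl⟩ := QuotientGroup.mk_surjective d
    rw [hact, hact, hact]
    congr 1
    exact Subtype.ext (by simp [mul_assoc])
  have hact1 : ∀ d : Q, act 1 d = d := by
    intro d
    obtain ⟨y, rfl⟩ := QuotientGroup.mk_surjective d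
    rw [hact]
    congr 1
    exact Subtype.ext (by simp)
  have hfixiff : ∀ (a : (T : Subgroup G)) (y : W),
      act a (y : Q) = (y : Q) ↔ (y : G)⁻¹ * (a : G)⁻¹ * y * a ∈ Φ := by
    intro a y
    have hainv : (a : G)⁻¹ = a := inv_eq_of_mul_eq_one_right (h.sq_sylow T a a.2)
    rw [hact, eq_comm, QuotientGroup.eq, hΦ, Subgroup.mem_map]
    constructor
    · exact fun hh => ⟨_, hh, by simp [hainv, mul_assoc]⟩
    · rintro ⟨z, hz, hze⟩
      convert hz
      apply Subtype.ext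
      simpa [hainv, mul_assoc] using hze.symm
  let St : Q → Subgroup G := fun d =>
    { carrier := {a | ∃ ha : a ∈ (T : Subgroup G), act ⟨a, ha⟩ d = d}
      one_mem' := ⟨one_mem _, hact1 d⟩
      mul_mem' := by
        rintro a b ⟨ha, e⟩ ⟨hb, e'⟩
        exact ⟨mul_mem ha hb, (hactmul ⟨a, ha⟩ ⟨b, hb⟩ d).trans ((congrArg _ e').trans e)⟩
      inv_mem' := by
        rintro a ⟨ha, e⟩
        refine ⟨inv_mem ha, ?_⟩
        have : (⟨a⁻¹, inv_mem ha⟩ : (T : Subgroup G)) = ⟨a, ha⟩ :=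
          Subtype.ext (inv_eq_of_mul_eq_one_right (h.sq_sylow T a ha))
        rw [this, e] }
  have hStle : ∀ d, St d ≤ (T : Subgroup G) := fun d a ha => ha.1
  have hhalf : ∀ d, Nat.card (T : Subgroup G) ≤ 2 * Nat.card (St d) := by
    intro d
    obtain ⟨y, rfl⟩ := QuotientGroup.mk_surjective d
    obtain ⟨U, hUT, hUc, hU⟩ := hbig y y.2
    exact hUc.trans (Nat.mul_le_mul_left 2 (Subgroup.card_le_of_le fun a ha =>
      ⟨hUT ha, (hfixiff ⟨a, hUT ha⟩ y).2 (hU a ha)⟩))
  -- one hyperplane fixes the quotient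
  obtain ⟨B, hBT, hBcard, hBfix⟩ : ∃ B : Subgroup G, B ≤ (T : Subgroup G) ∧
      Nat.card (T : Subgroup G) ≤ 2 * Nat.card B ∧ ∀ d, B ≤ St d := by
    by_cases hall : ∀ d, (T : Subgroup G) ≤ St d
    · exact ⟨_, le_rfl, Nat.le_mul_of_pos_left _ two_pos, hall⟩
    push Not at hall
    obtain ⟨d₁, hd₁⟩ := hall
    refine ⟨St d₁, hStle _, hhalf _, fun d₂ => ?_⟩
    by_contra hne
    obtain ⟨b₁, hb₁, hb₁'⟩ := SetLike.not_le_iff_exists.1 hne
    obtain ⟨b₂, hb₂, hb₂'⟩ : ∃ b₂ ∈ St d₂, b₂ ∉ St d₁ := by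
      by_contra hne2
      push Not at hne2
      have hle : St d₂ ≤ St d₁ := hne2
      have hlt1 : Nat.card (St d₂) < Nat.card (St d₁) := lt_of_le_of_ne (Subgroup.card_le_of_le hle)
        fun e => hne (Subgroup.eq_of_le_of_card_ge hle e.ge).ge
      obtain ⟨n, hn⟩ := IsPGroup.iff_card.1 T.2
      obtain ⟨i, hin, hi⟩ := (Nat.dvd_prime_pow Nat.prime_two).1 (hn ▸ Subgroup.card_dvd_of_le (hStle d₁))
      have hilt : i < n := lt_of_le_of_ne hin fun e => hd₁
        (Subgroup.eq_of_le_of_card_ge (hStle d₁) (by rw [hn, hi, e])).ge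
      have h2 : 2 * 2 ^ i ≤ 2 ^ n := by rw [← pow_succ']; exact Nat.pow_le_pow_right two_pos hilt
      have := hhalf d₂
      rw [hn] at this
      rw [hi] at hlt1
      omega
    obtain ⟨hb₁T, e11⟩ := hb₁
    obtain ⟨hb₂T, e22⟩ := hb₂
    set c₁ : (T : Subgroup G) := ⟨b₁, hb₁T⟩
    set c₂ : (T : Subgroup G) := ⟨b₂, hb₂T⟩
    have h1' : b₁ ∉ St (d₁ * d₂) := fun hh => hb₁' ⟨hb₁T, by
      have e := hh.2
      rw [map_mul, e11] at e
      exact mul_left_cancel e⟩
    have h2' : b₂ ∉ St (d₁ * d₂) := fun hh => hb₂' ⟨hb₂T, by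
      have e := hh.2
      rw [map_mul, e22] at e
      exact mul_right_cancel e⟩
    obtain ⟨_, e12⟩ := mul_mem_of_half (hStle _) (hhalf _) hb₁T hb₂T h1' h2'
    have hcc : c₁ * c₂ = c₂ * c₁ := Subtype.ext (h.comm_sylow T hb₁T hb₂T).eq
    have e12' : act (c₁ * c₂) (d₁ * d₂) = d₁ * d₂ := e12
    rw [map_mul] at e12'
    nth_rewrite 1 [hcc] at e12'
    rw [hactmul, hactmul, e11, e22] at e12'
    -- the difference is inverted and fixed by `b₂`
    set u := act c₂ d₁
    set v := act c₁ d₂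
    have hd : u * d₁⁻¹ = d₂ * v⁻¹ := by
      rw [← mul_inv_cancel_right u v, e12', mul_comm d₁ d₂, mul_assoc, mul_assoc, mul_comm v⁻¹, mul_inv_cancel_left]
    have hu : act c₂ u = d₁ := by
      rw [← hactmul, show c₂ * c₂ = 1 from Subtype.ext (h.sq_sylow T b₂ hb₂T), hact1]
    have hv : act c₂ v = v := by
      show act c₂ (act c₁ d₂) = act c₁ d₂
      rw [← hactmul, ← hcc, hactmul, e22]
    have hfixd : (u * d₁⁻¹)⁻¹ = u * d₁⁻¹ := by
      have := congrArg (act c₂) hd
      rw [map_mul, map_mul, map_inv, map_inv, hu, hv, e22, ← hd] at this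
      rw [mul_inv_rev, inv_inv]; exact this
    exact hb₂' ⟨hb₂T, mul_inv_eq_one.1 (hQo _ hfixd)⟩
  -- it centralises the core
  have hBC : ∀ b ∈ B, ∀ w ∈ W, Commute b w := by
    intro b hb w hw
    have hcop : (orderOf b).Coprime p := by
      refine Nat.Coprime.coprime_dvd_left (orderOf_dvd_of_pow_eq_one (n := 2) (by
        rw [pow_two]; exact h.sq_sylow T b (hBT hb))) ?_
      exact Nat.coprime_two_left.2 h.p_odd
    have := CfsgLib.PLocal.centralizes_of_trivial_on_frattini_quotient hWp (hTN b (hBT hb)) hcop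
      fun k hk => (hfixiff ⟨b, hBT hb⟩ ⟨k, hk⟩).1 (hBfix _ hb).2
    exact (Subgroup.mem_centralizer_iff.1 this w hw).symm
  obtain ⟨a₀, ha₀, w₀, hw₀, hnc⟩ := h.exists_noncommute hI ht ht1
  set B' := (T : Subgroup G) ⊓ Subgroup.centralizer (W : Set G) with hB'
  have hBB' : B ≤ B' := fun b hb =>
    ⟨hBT hb, Subgroup.mem_centralizer_iff.2 fun w hw => (hBC b hb w hw).symm.eq⟩
  refine ⟨B', inf_le_left, ?_, ⟨ht, Subgroup.mem_centralizer_iff.2 fun w hw => (core_commute hw).eq⟩,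
    fun a ha => ⟨fun hh w hw => (Subgroup.mem_centralizer_iff.1 hh.2 w hw).symm,
      fun hh => ⟨ha, Subgroup.mem_centralizer_iff.2 fun w hw => (hh w hw).symm.eq⟩⟩⟩
  obtain ⟨n, hn⟩ := IsPGroup.iff_card.1 T.2
  obtain ⟨i, hin, hi⟩ := (Nat.dvd_prime_pow Nat.prime_two).1
    (hn ▸ Subgroup.card_dvd_of_le (inf_le_left : B' ≤ _))
  have hilt : i < n := lt_of_le_of_ne hin fun e => hnc (by
    have := (Subgroup.eq_of_le_of_card_ge (inf_le_left : B' ≤ _) (by rw [hn, hi, e])).ge ha₀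
    exact (Subgroup.mem_centralizer_iff.1 this.2 w₀ hw₀).symm)
  have h2 : 2 * 2 ^ i ≤ 2 ^ n := by rw [← pow_succ']; exact Nat.pow_le_pow_right two_pos hilt
  have h3 := hBcard.trans (Nat.mul_le_mul_left 2 (Subgroup.card_le_of_le hBB'))
  rw [hn, hi] at h3
  rw [hn, hi]
  exact le_antisymm h2 h3

/-- Hence the Sylow 2-subgroups are four-groups. -/
theorem card_sylow_four (hI : ¬ h.CaseI) (T : Sylow 2 G) : Nat.card (T : Subgroup G) = 4 := by
  by_contra hne
  haveI : Fact (Nat.Prime 2) := ⟨Nat.prime_two⟩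
  have hT4 := h.four_le T
  obtain ⟨t, ht, ht1⟩ : ∃ t ∈ (T : Subgroup G), t ≠ 1 := by
    by_contra hcc
    push Not at hcc
    rw [(Subgroup.eq_bot_iff_forall _).2 hcc, Subgroup.card_bot] at hT4
    omega
  have hT8 : 4 < Nat.card (T : Subgroup G) := by omega
  choose B hBT hBc htB hBiff using fun (a : G) (ha : a ∈ (T : Subgroup G) ∧ a ≠ 1) =>
    h.exists_hyperplane hI ha.1 ha.2
  -- an involution centralising a core has the same core
  have hsame : ∀ a b : G, ∀ ha : a ∈ (T : Subgroup G) ∧ a ≠ 1, ∀ _ : b ∈ (T : Subgroup G) ∧ b ≠ 1,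
      b ∈ B a ha → core b = core a := by
    intro a b ha hb hba
    have hle : core a ≤ core b := h.le_core hb.1 hb.2 (odd_core a)
      (fun y hy => ((hBiff a ha b hb.1).1 hba y hy).symm)
      (fun c hc y hy => core_normal (h.comm_sylow T hc ha.1) hy)
    exact (Subgroup.eq_of_le_of_card_ge hle (h.card_core_eq
      (invol_of_mul_self (h.sq_sylow T b hb.1) hb.2) (invol_of_mul_self (h.sq_sylow T a ha.1) ha.2)).le).symm
  obtain ⟨b, hb, hbB⟩ : ∃ b ∈ (T : Subgroup G), b ∉ B t ⟨ht, ht1⟩ := by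
    by_contra hcc
    push Not at hcc
    have := Subgroup.card_le_of_le (show (T : Subgroup G) ≤ B t ⟨ht, ht1⟩ from hcc)
    have := hBc t ⟨ht, ht1⟩
    omega
  have hb1 : b ≠ 1 := fun e => hbB (by rw [e]; exact one_mem _)
  have hnd : B t ⟨ht, ht1⟩ ⊓ B b ⟨hb, hb1⟩ ≠ ⊥ := fun e => by
    have hn : B b ⟨hb, hb1⟩ ≤ normalizer ((B t ⟨ht, ht1⟩ : Subgroup G) : Set G) := fun c hc =>
      Subgroup.centralizer_le_normalizer _ (Subgroup.mem_centralizer_iff.2 fun a ha =>
        (h.comm_sylow T (hBT t ⟨ht, ht1⟩ ha) (hBT b ⟨hb, hb1⟩ hc)).eq)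
    have hcard := card_sup_of_disjoint hn e
    have hle := Subgroup.card_le_of_le (sup_le (hBT t ⟨ht, ht1⟩) (hBT b ⟨hb, hb1⟩))
    have hc1 := hBc t ⟨ht, ht1⟩
    have hc2 := hBc b ⟨hb, hb1⟩
    rw [hcard, show Nat.card (B b ⟨hb, hb1⟩) = Nat.card (B t ⟨ht, ht1⟩) by omega] at hle
    rw [← hc1] at hle hT8
    have := Nat.le_of_mul_le_mul_right hle Nat.card_pos
    omega
  obtain ⟨c, hc, hc1⟩ := CfsgLib.Comp.exists_mem_ne_one hnd
  have hcT : c ∈ (T : Subgroup G) ∧ c ≠ 1 := ⟨hBT t ⟨ht, ht1⟩ hc.1, hc1⟩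
  have e1 := hsame t c ⟨ht, ht1⟩ hcT hc.1
  have e2 := hsame b c ⟨hb, hb1⟩ hcT hc.2
  refine hbB ((hBiff t ⟨ht, ht1⟩ b hb).2 fun w hw => ?_)
  rw [← e1, e2] at hw
  exact (core_commute hw).symm

end Spec

end CfsgLib.FiveOrbit
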