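import Cfsg.Agent.Lib.FiveOrbit.CaseTwo
import Cfsg.Agent.Lib.FT.OddOrder
import Cfsg.Agent.Lib.Recog.EPPOSimple.Simple
import Cfsg.Agent.S2202
import Cfsg.Prelude.Def_Exceptional

/-!
# Simple groups with at most five automorphism orbits

At most five element orders occur.  If `2 q` is one of them the orders are `1, 2, p, r, 2 p`, which
is impossible; otherwise the classification of simple groups with 2-group involution centralisers
applies, and counting element orders leaves `A₅`, `A₆`, `L₂(7)` and `L₂(8)`.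
-/

set_option autoImplicit false
set_option linter.unusedSectionVars false
set_option linter.style.haveILetI false

universe u

namespace CfsgLib.FiveOrbit

open Subgroup CfsgLib.Invol CfsgLib.EqOrder

/-- The conclusion. -/
def Answer (G : Type u) [Group G] : Prop :=
  Nonempty (G ≃* ↥(alternatingGroup (Fin 5))) ∨ Nonempty (G ≃* ↥(alternatingGroup (Fin 6))) ∨
    (∃ (F : Type) (_ : Field F) (_ : Fintype F), (Fintype.card F = 7 ∨ Fintype.card F = 8) ∧
      Nonempty (G ≃* Matrix.ProjectiveSpecialLinearGroup (Fin 2) F))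

/-- The list of simple groups with 2-group involution centralisers. -/
def CITList (G : Type u) [Group G] : Prop :=
  (∃ (F : Type) (_ : Field F) (_ : Fintype F),
      (Fintype.card F = 9 ∨ (∃ n : ℕ, Fintype.card F = 2 ^ n) ∨
        ((Fintype.card F).Prime ∧ ∃ k : ℕ, Fintype.card F = 2 ^ k + 1 ∨ Fintype.card F + 1 = 2 ^ k)) ∧
      Nonempty (G ≃* Matrix.ProjectiveSpecialLinearGroup (Fin 2) F)) ∨
  (∃ (F : Type) (_ : Field F) (_ : Fintype F), Fintype.card F = 4 ∧
      Nonempty (G ≃* Matrix.ProjectiveSpecialLinearGroup (Fin 3) F)) ∨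
  Cfsg.IsSuzuki G

variable {G : Type u} [Group G] [Finite G]

theorem exists_order_of_prime_dvd {q : ℕ} (hq : q.Prime) (hd : q ∣ Nat.card G) :
    ∃ g : G, orderOf g = q := by
  haveI := Fact.mk hq
  exact exists_prime_orderOf_dvd_card' q hd

theorem exists_order_of_dvd {g : G} {d : ℕ} (hd : d ∣ orderOf g) : ∃ x : G, orderOf x = d := by
  rcases Nat.eq_zero_or_pos d with rfl | hd0
  · exact absurd (zero_dvd_iff.1 hd) (orderOf_pos g).ne'
  refine ⟨g ^ (orderOf g / d), ?_⟩
  rw [orderOf_pow_of_dvd (Nat.div_pos (Nat.le_of_dvd (orderOf_pos g) hd) hd0).ne' (Nat.div_dvd_of_dvd hd),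
    Nat.div_div_self hd (orderOf_pos g).ne']

theorem two_primes_of_not_onePP {m : ℕ} (hm : 1 < m) (h : ¬ CfsgLib.Recog.EPPOSimple.OnePP m) :
    ∃ a b : ℕ, a.Prime ∧ b.Prime ∧ a ≠ b ∧ a ∣ m ∧ b ∣ m := by
  have ha := Nat.minFac_prime hm.ne'
  by_contra hne
  push Not at hne
  have hpow := Nat.eq_prime_pow_of_unique_prime_dvd (p := m.minFac) (n := m) (by omega)
    fun {d} hd hdd => by
      by_contra hdne
      exact hne d m.minFac hd ha hdne hdd m.minFac_dvd
  refine h (Or.inr ?_)
  rw [hpow] at hm ⊢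
  exact IsPrimePow.pow (Nat.Prime.isPrimePow ha) fun e => by rw [e, pow_zero] at hm; omega

theorem five_of_card_sixty [IsSimpleGroup G] (hc : Nat.card G = 60) : Answer G := by
  haveI := alternatingGroup.isSimpleGroup (α := Fin 5) (by simp)
  exact Or.inl (CfsgLib.ClassK.nonempty_equiv_sixty hc (by
    rw [nat_card_alternatingGroup, Nat.card_fin]; rfl))

section Orders

variable (h5 : Nat.card (MulAction.orbitRel.Quotient (MulAut G) G) ≤ 5)
include h5

theorem card_orders {s : Finset ℕ} (hs : ∀ n ∈ s, ∃ g : G, orderOf g = n) :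
    s.card ≤ 5 ∧ (s.card = 5 →
      (∀ g : G, orderOf g ∈ s) ∧ ∀ a b : G, orderOf a = orderOf b → ∃ σ : MulAut G, σ a = b) := by
  classical
  choose f hf using hs
  let φ : {n // n ∈ s} → MulAction.orbitRel.Quotient (MulAut G) G := fun n => Quotient.mk'' (f n.1 n.2)
  have hord : ∀ a b : G, (Quotient.mk'' a : MulAction.orbitRel.Quotient (MulAut G) G) = Quotient.mk'' b →
      ∃ σ : MulAut G, σ b = a := fun a b e => by
    have := Quotient.eq''.1 e
    rw [MulAction.orbitRel_apply, MulAction.mem_orbit_iff] at this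
    exact this
  have hinj : Function.Injective φ := fun m n e => by
    obtain ⟨σ, hσ⟩ := hord _ _ e
    refine Subtype.ext ?_
    rw [← hf m.1 m.2, ← hσ, MulEquiv.orderOf_eq, hf]
  have hle := Nat.card_le_card_of_injective φ hinj
  rw [Nat.card_eq_fintype_card, Fintype.card_coe] at hle
  refine ⟨hle.trans h5, fun he => ?_⟩
  have hbij : Function.Bijective φ := hinj.bijective_of_nat_card_le (by
    rw [Nat.card_eq_fintype_card (α := {n // n ∈ s}), Fintype.card_coe, he]; exact h5)
  have hrep : ∀ g : G, ∃ n : {n // n ∈ s}, ∃ σ : MulAut G, σ (f n.1 n.2) = g := fun g => by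
    obtain ⟨n, hn⟩ := hbij.2 (Quotient.mk'' g)
    exact ⟨n, hord _ _ hn.symm⟩
  have hval : ∀ {g : G} {n : {n // n ∈ s}} {σ : MulAut G}, σ (f n.1 n.2) = g → orderOf g = n.1 :=
    fun e => by rw [← e, MulEquiv.orderOf_eq, hf]
  refine ⟨fun g => ?_, fun a b hab => ?_⟩
  · obtain ⟨n, σ, hσ⟩ := hrep g
    exact hval hσ ▸ n.2
  · obtain ⟨m, σ, hσ⟩ := hrep a
    obtain ⟨n, τ, hτ⟩ := hrep b
    obtain rfl : m = n := Subtype.ext (by rw [← hval hσ, ← hval hτ, hab])
    refine ⟨τ * σ⁻¹, ?_⟩
    rw [← hσ, ← hτ]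
    show τ (σ.symm (σ (f m.1 m.2))) = _
    rw [MulEquiv.symm_apply_apply]

theorem not_six {a b c d e g : ℕ} (hnd : [a, b, c, d, e, g].Nodup)
    (hs : ∀ n ∈ [a, b, c, d, e, g], ∃ x : G, orderOf x = n) : False := by
  classical
  have := (card_orders h5 (s := [a, b, c, d, e, g].toFinset) fun n hn => hs n (List.mem_toFinset.1 hn)).1
  rw [List.toFinset_card_of_nodup hnd] at this
  simp at this

theorem five_orders {a b c d e : ℕ} (hnd : [a, b, c, d, e].Nodup)
    (hs : ∀ n ∈ [a, b, c, d, e], ∃ x : G, orderOf x = n) :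
    (∀ x : G, orderOf x ∈ [a, b, c, d, e]) ∧
      ∀ x y : G, orderOf x = orderOf y → ∃ σ : MulAut G, σ x = y := by
  classical
  obtain ⟨h1, h2⟩ := (card_orders h5 (s := [a, b, c, d, e].toFinset)
    fun n hn => hs n (List.mem_toFinset.1 hn)).2 (by rw [List.toFinset_card_of_nodup hnd]; rfl)
  exact ⟨fun x => List.mem_toFinset.1 (h1 x), h2⟩

variable [IsSimpleGroup G] (hG : ¬ IsMulCommutative G)
include hG

theorem psl_two_case {F : Type} [Field F] [Fintype F]
    (hF : Fintype.card F = 9 ∨ (∃ n : ℕ, Fintype.card F = 2 ^ n) ∨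
      ((Fintype.card F).Prime ∧ ∃ k : ℕ, Fintype.card F = 2 ^ k + 1 ∨ Fintype.card F + 1 = 2 ^ k))
    (e : G ≃* Matrix.ProjectiveSpecialLinearGroup (Fin 2) F) : Answer G := by
  have hcard : Nat.card G = Nat.card (Matrix.ProjectiveSpecialLinearGroup (Fin 2) F) :=
    Nat.card_congr e.toEquiv
  have h1 : ∃ g : G, orderOf g = 1 := ⟨1, orderOf_one⟩
  have hlift : ∀ {n : ℕ}, (∃ x : Matrix.ProjectiveSpecialLinearGroup (Fin 2) F, orderOf x = n) →
      ∃ g : G, orderOf g = n := fun ⟨x, hx⟩ => ⟨e.symm x, by rw [MulEquiv.orderOf_eq, hx]⟩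
  have h4 : 4 ≤ Fintype.card F := by
    by_contra hlt
    have h1 : 1 < Fintype.card F := Fintype.one_lt_card
    obtain ⟨h6, h12⟩ := CfsgLib.Recog.EPPOSimple.not_card_six_or_twelve hG
    rcases (show Fintype.card F = 2 ∨ Fintype.card F = 3 by omega) with hq | hq
    · exact h6 (hcard.trans (CfsgLib.Classical.card_psl_two_eq hq 6 (by decide)))
    · exact h12 (hcard.trans (CfsgLib.Classical.card_psl_two_eq hq 12 (by decide)))
  rcases hF with hq | ⟨n, hq⟩ | ⟨hp, k, hk⟩
  · haveI := alternatingGroup.isSimpleGroup (α := Fin 6) (by simp)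
    refine Or.inr (Or.inl (CfsgLib.ClassK.nonempty_equiv_360 ?_ (by
      rw [nat_card_alternatingGroup, Nat.card_fin]; rfl)))
    exact hcard.trans (CfsgLib.Classical.card_psl_two_eq hq 360 (by decide))
  · have hn : 2 ≤ n := by
      by_contra hn
      have : 2 ^ n ≤ 2 ^ 1 := Nat.pow_le_pow_right (by norm_num) (by omega)
      omega
    haveI := Fact.mk Nat.prime_two
    haveI : CharP F 2 := charP_of_card_eq_prime_pow hq
    have h2n : 4 ≤ 2 ^ n := hq ▸ h4
    have h2d : 2 ∣ 2 ^ n := dvd_pow_self 2 (by omega)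
    have hd : Nat.gcd 2 (Fintype.card F - 1) = 1 := by
      rw [hq]
      exact Nat.prime_two.coprime_iff_not_dvd.2 (by omega)
    have hlow : ∀ {m : ℕ}, m ∣ 2 ^ n - 1 → ∃ g : G, orderOf g = m := fun hm =>
      hlift (CfsgLib.KnownB.SL2.exists_orderOf_psl (F := F) 2
        (Or.inr (Or.inl (by rw [hd, Nat.div_one, hq]; exact hm))))
    have hhigh : ∀ {m : ℕ}, m ∣ 2 ^ n + 1 → ∃ g : G, orderOf g = m := fun hm =>
      hlift (CfsgLib.KnownB.SL2.exists_orderOf_psl (F := F) 2
        (Or.inr (Or.inr (by rw [hd, Nat.div_one, hq]; exact hm))))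
    have htwo : ∃ g : G, orderOf g = 2 :=
      hlift (CfsgLib.KnownB.SL2.exists_orderOf_psl (F := F) 2 (Or.inl dvd_rfl))
    by_cases hboth : CfsgLib.Recog.EPPOSimple.OnePP (2 ^ n - 1) ∧ CfsgLib.Recog.EPPOSimple.OnePP (2 ^ n + 1)
    · rcases CfsgLib.Recog.EPPOSimple.two_pow_case hn hboth.1 hboth.2 with rfl | rfl
      · exact five_of_card_sixty (hcard.trans (CfsgLib.Classical.card_psl_two_eq hq 60 (by decide)))
      · exact Or.inr (Or.inr ⟨F, inferInstance, inferInstance, Or.inr (by rw [hq]; rfl), ⟨e⟩⟩)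
    exfalso
    -- too many element orders
    have key : ∀ A B : ℕ, Odd A → Odd B → Nat.Coprime A B → 1 < A → 1 < B →
        (∀ m, m ∣ A → ∃ g : G, orderOf g = m) → (∀ m, m ∣ B → ∃ g : G, orderOf g = m) →
        ¬ CfsgLib.Recog.EPPOSimple.OnePP A → False := by
      intro A B hA hB hco hA1 hB1 oA oB hnp
      obtain ⟨a, b, ha, hb, hab, haA, hbA⟩ := two_primes_of_not_onePP hA1 hnp
      set c := B.minFac with hc'
      have hc := Nat.minFac_prime hB1.ne'
      have hcB : c ∣ B := B.minFac_dvd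
      have habA : a * b ∣ A := ((Nat.coprime_primes ha hb).2 hab).mul_dvd_of_dvd_of_dvd haA hbA
      have ha2 : a ≠ 2 := fun e => by rw [Nat.odd_iff] at hA; rw [e] at haA; omega
      have hb2 : b ≠ 2 := fun e => by rw [Nat.odd_iff] at hA; rw [e] at hbA; omega
      have hc2 : c ≠ 2 := fun e => by rw [Nat.odd_iff] at hB; rw [e] at hcB; omega
      have hac : a ≠ c := fun e => ha.ne_one (Nat.dvd_one.1 (hco ▸ Nat.dvd_gcd haA (e ▸ hcB)))
      have hbc : b ≠ c := fun e => hb.ne_one (Nat.dvd_one.1 (hco ▸ Nat.dvd_gcd hbA (e ▸ hcB)))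
      have habc : a * b ≠ c := fun e => ha.ne_one
        (Nat.dvd_one.1 (hco ▸ Nat.dvd_gcd haA ((Dvd.intro b e).trans hcB)))
      have ha3 := ha.two_le
      have hb3 := hb.two_le
      have := hc.two_le
      have haab : a < a * b := lt_mul_of_one_lt_right (by omega) (by omega)
      have hbab : b < a * b := lt_mul_of_one_lt_left (by omega) (by omega)
      refine not_six h5 (a := 1) (b := 2) (c := a) (d := b) (e := a * b) (g := c) ?_ ?_
      · simp only [List.nodup_cons, List.mem_cons, List.not_mem_nil, or_false, not_or,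
          not_false_eq_true, List.nodup_nil, and_true]
        omega
      · simp only [List.forall_mem_cons, List.not_mem_nil, false_implies, implies_true, and_true]
        exact ⟨h1, htwo, oA a haA, oA b hbA, oA _ habA, oB c hcB⟩
    have hAo : Odd (2 ^ n - 1) := by rw [Nat.odd_iff]; omega
    have hBo : Odd (2 ^ n + 1) := by rw [Nat.odd_iff]; omega
    have hco : Nat.Coprime (2 ^ n - 1) (2 ^ n + 1) := by
      have hg2 : Nat.gcd (2 ^ n - 1) (2 ^ n + 1) ∣ 2 := by
        have := Nat.dvd_sub (Nat.gcd_dvd_right (2 ^ n - 1) (2 ^ n + 1)) (Nat.gcd_dvd_left (2 ^ n - 1) (2 ^ n + 1))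
        rwa [show 2 ^ n + 1 - (2 ^ n - 1) = 2 by omega] at this
      rcases (Nat.dvd_prime Nat.prime_two).1 hg2 with e' | e'
      · exact e'
      · exfalso
        have := Nat.gcd_dvd_left (2 ^ n - 1) (2 ^ n + 1)
        rw [e'] at this
        omega
    rcases not_and_or.1 hboth with hn' | hn'
    · exact key _ _ hAo hBo hco (by omega) (by omega) (fun _ => hlow) (fun _ => hhigh) hn'
    · exact key _ _ hBo hAo hco.symm (by omega) (by omega) (fun _ => hhigh) (fun _ => hlow) hn'
  · haveI := Fact.mk hp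
    haveI : CharP F (Fintype.card F) := charP_of_card_eq_prime (p := Fintype.card F) rfl
    have hq5 : 5 ≤ Fintype.card F := by
      rcases Nat.lt_or_ge (Fintype.card F) 5 with hlt | hge
      · have : Fintype.card F = 4 := by omega
        rw [this] at hp
        norm_num at hp
      · exact hge
    set q := Fintype.card F with hq
    have hodd := hp.eq_two_or_odd
    have hd : Nat.gcd 2 (q - 1) = 2 := Nat.gcd_eq_left (by omega)
    by_cases hq5' : q = 5
    · exact five_of_card_sixty (hcard.trans (CfsgLib.Classical.card_psl_two_eq hq5' 60 (by decide)))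
    by_cases hq7 : q = 7
    · exact Or.inr (Or.inr ⟨F, inferInstance, inferInstance, Or.inl hq7, ⟨e⟩⟩)
    exfalso
    have hk4 : 4 ≤ k := by
      by_contra hlt
      have h9 : q ≠ 9 := fun e => by rw [e] at hp; norm_num at hp
      interval_cases k <;> norm_num at hk <;> omega
    obtain ⟨j, rfl⟩ : ∃ j, k = j + 4 := ⟨k - 4, by omega⟩
    have h16 : 2 ^ (j + 4) = 16 * 2 ^ j := by rw [pow_add]; ring
    have hj1 : 1 ≤ 2 ^ j := Nat.one_le_two_pow
    have hlow : ∀ {m : ℕ}, m ∣ (q - 1) / 2 → ∃ g : G, orderOf g = m := fun hm =>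
      hlift (CfsgLib.KnownB.SL2.exists_orderOf_psl (F := F) q (Or.inr (Or.inl (by rwa [← hq, hd]))))
    have hhigh : ∀ {m : ℕ}, m ∣ (q + 1) / 2 → ∃ g : G, orderOf g = m := fun hm =>
      hlift (CfsgLib.KnownB.SL2.exists_orderOf_psl (F := F) q (Or.inr (Or.inr (by rwa [← hq, hd]))))
    have hchar : ∃ g : G, orderOf g = q :=
      hlift (CfsgLib.KnownB.SL2.exists_orderOf_psl (F := F) q (Or.inl dvd_rfl))
    have key : ∀ {s : ℕ}, 1 < s → Odd s → s ≠ q → (∃ g : G, orderOf g = s) →
        (∀ {m : ℕ}, m ∣ 8 → ∃ g : G, orderOf g = m) → False := by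
      intro s hs1 hso hsq hs height
      have hoq : Odd q := Nat.odd_iff.2 (hodd.resolve_left (by omega))
      refine not_six h5 (a := 1) (b := 2) (c := 4) (d := 8) (e := q) (g := s) ?_ ?_
      · rw [Nat.odd_iff] at hso hoq
        simp only [List.nodup_cons, List.mem_cons, List.not_mem_nil, or_false, not_or,
          not_false_eq_true, List.nodup_nil, and_true]
        omega
      · simp only [List.forall_mem_cons, List.not_mem_nil, false_implies, implies_true, and_true]
        exact ⟨h1, height (by norm_num), height (by norm_num), height dvd_rfl, hchar, hs⟩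
    rcases hk with hk | hk
    · exact key (s := (q + 1) / 2) (by omega) (Nat.odd_iff.2 (by omega)) (by omega) (hhigh dvd_rfl)
        fun hm => hlow (hm.trans (by omega))
    · exact key (s := (q - 1) / 2) (by omega) (Nat.odd_iff.2 (by omega)) (by omega) (hlow dvd_rfl)
        fun hm => hhigh (hm.trans (by omega))

theorem four_primes_case (hCIT : ∀ t : G, orderOf t = 2 → IsPGroup 2 (Subgroup.centralizer ({t} : Set G)))
    {a b c : ℕ} (ha : a.Prime) (hb : b.Prime) (hc : c.Prime) (hnd : [2, a, b, c].Nodup)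
    (hd : ∀ n ∈ [2, a, b, c], n ∣ Nat.card G) : Answer G := by
  haveI := Fact.mk Nat.prime_two
  simp only [List.nodup_cons, List.mem_cons, List.not_mem_nil, or_false, not_or, not_false_eq_true,
    List.nodup_nil, and_true] at hnd
  simp only [List.forall_mem_cons, List.not_mem_nil, false_implies, implies_true, and_true] at hd
  obtain ⟨hd2, hda, hdb, hdc⟩ := hd
  have := ha.two_le
  have := hb.two_le
  have := hc.two_le
  obtain ⟨hmem, -⟩ := five_orders h5 (a := 1) (b := 2) (c := a) (d := b) (e := c)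
    (by
      simp only [List.nodup_cons, List.mem_cons, List.not_mem_nil, or_false, not_or, not_false_eq_true,
        List.nodup_nil, and_true]
      omega)
    (by
      simp only [List.forall_mem_cons, List.not_mem_nil, false_implies, implies_true, and_true]
      exact ⟨⟨1, orderOf_one⟩, exists_order_of_prime_dvd Nat.prime_two hd2,
        exists_order_of_prime_dvd ha hda, exists_order_of_prime_dvd hb hdb, exists_order_of_prime_dvd hc hdc⟩)
  have hsq : ∀ {g : G} {i : ℕ}, orderOf g = 2 ^ i → g * g = 1 := by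
    intro g i hi
    have hi1 : i ≤ 1 := by
      by_contra hlt
      obtain ⟨l, rfl⟩ : ∃ l, i = l + 2 := ⟨i - 2, by omega⟩
      have h4 : 4 ∣ orderOf g := hi ▸ ⟨2 ^ l, by rw [pow_add]; ring⟩
      have hm := hmem g
      simp only [List.mem_cons, List.not_mem_nil, or_false] at hm
      have hp4 : ∀ {x : ℕ}, x.Prime → ¬ 4 ∣ x := fun hx h' => by
        have := (Nat.prime_dvd_prime_iff_eq Nat.prime_two hx).1 (Dvd.dvd.trans ⟨2, rfl⟩ h')
        rw [← this] at h'
        norm_num at h'
      rcases hm with e | e | e | e | e <;> rw [e] at h4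
      · norm_num at h4
      · norm_num at h4
      · exact hp4 ha h4
      · exact hp4 hb h4
      · exact hp4 hc h4
    rw [← pow_two, ← orderOf_dvd_iff_pow_eq_one, hi]
    exact (Nat.pow_dvd_pow 2 hi1).trans (by norm_num)
  have hab : ∀ t : G, orderOf t = 2 → IsMulCommutative ↥(Subgroup.centralizer ({t} : Set G)) := by
    intro t ht
    have hinv : ∀ x : Subgroup.centralizer ({t} : Set G), x⁻¹ = x := fun x => by
      obtain ⟨i, hi⟩ := IsPGroup.iff_orderOf.1 (hCIT t ht) x
      rw [← Subgroup.orderOf_coe] at hi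
      exact inv_eq_of_mul_eq_one_right (Subtype.ext (hsq hi))
    exact ⟨⟨fun x y => by rw [← hinv (x * y), mul_inv_rev, hinv, hinv]⟩⟩
  have hnotsub : ∀ H : Subgroup G, H.Normal → H = ⊥ ∨ H = ⊤ := fun H hH =>
    IsSimpleGroup.eq_bot_or_eq_top_of_normal H hH
  rcases Cfsg.Agent.S2202.result (even_iff_two_dvd.2 hd2) hab with hcyc | hnor |
    ⟨F, _, _, A, _, _, hchar, -, ⟨φ⟩⟩
  · exfalso
    obtain ⟨T⟩ := (inferInstance : Nonempty (Sylow 2 G))
    haveI := hcyc T
    obtain ⟨W, hWn, hWo, hWi⟩ := exists_compl_of_cyclic_two T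
    rcases hnotsub W hWn with rfl | rfl
    · rw [Subgroup.index_bot] at hWi
      obtain ⟨j, hj⟩ := IsPGroup.iff_card.1 T.2
      rw [hWi, hj] at hda
      have := (Nat.prime_dvd_prime_iff_eq ha Nat.prime_two).1 (ha.dvd_of_dvd_pow hda)
      omega
    · rw [Subgroup.card_top, Nat.odd_iff] at hWo
      omega
  · exfalso
    obtain ⟨T⟩ := (inferInstance : Nonempty (Sylow 2 G))
    obtain ⟨j, hj⟩ := IsPGroup.iff_card.1 T.2
    rcases hnotsub _ (hnor T) with e | e
    · exact T.ne_bot_of_dvd_card hd2 e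
    · rw [e, Subgroup.card_top] at hj
      rw [hj] at hda
      have := (Nat.prime_dvd_prime_iff_eq ha Nat.prime_two).1 (ha.dvd_of_dvd_pow hda)
      omega
  · let π : G →* A := (MonoidHom.snd _ A).comp φ.toMonoidHom
    rcases hnotsub π.ker π.normal_ker with e | e
    · exfalso
      have hπ := (MonoidHom.ker_eq_bot_iff π).1 e
      exact hG ⟨⟨fun x y => hπ (by rw [map_mul, map_mul, mul_comm])⟩⟩
    · haveI : Subsingleton A := ⟨fun x y => by
        have hx : ∀ z : A, z = 1 := fun z => by
          have : π (φ.symm (1, z)) = 1 := MonoidHom.mem_ker.1 (e ▸ Subgroup.mem_top _)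
          simpa [π] using this
        rw [hx x, hx y]⟩
      haveI : Unique A := uniqueOfSubsingleton 1
      obtain ⟨ψ⟩ := nonempty_sl_psl_of_card (F := F) (K := F) rfl
      obtain ⟨n, -, hn⟩ := FiniteField.card F 2
      exact psl_two_case h5 hG (Or.inr (Or.inl ⟨n, hn⟩)) ((φ.trans MulEquiv.prodUnique).trans ψ)

theorem main (hcls : (∀ t : G, orderOf t = 2 → IsPGroup 2 (Subgroup.centralizer ({t} : Set G))) →
    CITList G) : Answer G := by
  haveI := Fact.mk Nat.prime_two
  have hns : ¬ Group.IsSolvable G := fun hs => hG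
    ⟨⟨fun a b => IsSimpleGroup.comm_iff_isSolvable.2 hs a b⟩⟩
  have heven : 2 ∣ Nat.card G := by
    by_contra hne
    exact hns (CfsgLib.FT.odd_order_solvable (Nat.odd_iff.2 (by omega)))
  obtain ⟨p, r, hp, hr, hp2, hr2, hpr, hdp, hdr⟩ : ∃ p r : ℕ, p.Prime ∧ r.Prime ∧ p ≠ 2 ∧ r ≠ 2 ∧
      p ≠ r ∧ p ∣ Nat.card G ∧ r ∣ Nat.card G := by
    obtain ⟨a, m, hm, he⟩ := Nat.exists_eq_pow_mul_and_not_dvd (Nat.card_pos (α := G)).ne' 2 (by norm_num)
    have hm0 : m ≠ 0 := fun e => hm (e ▸ dvd_zero 2)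
    by_contra hne
    push Not at hne
    by_cases hm1 : m = 1
    · exact hns (CfsgLib.Char.burnside_pq 2 3 Nat.prime_two Nat.prime_three a 0 G (by
        rw [he, hm1, pow_zero]))
    have hp := Nat.minFac_prime hm1
    have hpm := m.minFac_dvd
    have hp2 : m.minFac ≠ 2 := fun e => hm (e ▸ hpm)
    have hpow := Nat.eq_prime_pow_of_unique_prime_dvd (p := m.minFac) hm0 fun {d} hd hdd => by
      by_contra hdne
      exact hne d m.minFac hd hp (fun e => hm (e ▸ hdd)) hp2 hdne (he ▸ hdd.mul_left _)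
        (he ▸ hpm.mul_left _)
    exact hns (CfsgLib.Char.burnside_pq 2 m.minFac Nat.prime_two hp a _ G (he.trans (congrArg _ hpow)))
  have hp3 := hp.two_le
  have hr3 := hr.two_le
  by_cases hCIT : ∀ t : G, orderOf t = 2 → IsPGroup 2 (Subgroup.centralizer ({t} : Set G))
  · rcases hcls hCIT with ⟨F, _, _, hF, ⟨e⟩⟩ | ⟨F, _, _, hF, ⟨e⟩⟩ | ⟨-, m, hm, hcard⟩
    · exact psl_two_case h5 hG hF e
    · have hcard : Nat.card G = 20160 :=
        (Nat.card_congr e.toEquiv).trans (CfsgLib.Recog.LThreeFour.card_psl_three_four hF)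
      refine four_primes_case h5 hG hCIT Nat.prime_three Nat.prime_five (by norm_num : (7 : ℕ).Prime)
        (by decide) ?_
      rw [hcard]
      decide
    · -- the Suzuki order has four prime divisors
      set x := 2 ^ m with hx
      have hx2 : 2 ≤ x := hx ▸ (show 2 ^ 1 ≤ 2 ^ m from Nat.pow_le_pow_right two_pos hm)
      have hxe : 2 ∣ x := hx ▸ dvd_pow_self 2 (by omega)
      have hq : 2 ^ (2 * m + 1) = 2 * x * x := by rw [pow_succ, two_mul m, pow_add]; ring
      rw [hq] at hcard
      set q := 2 * x * x with hq'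
      have hxx : 2 * x ≤ q := Nat.le_mul_of_pos_right _ (by omega)
      set A := q + 2 * x + 1 with hA
      set B := q - 2 * x + 1 with hB
      have hxB : 4 * x ≤ q + 2 * x := by omega
      have hprod : A * B = q ^ 2 + 1 := by
        obtain ⟨z, hz⟩ := Nat.exists_eq_add_of_le hxx
        have hz' : 2 * x * x = 2 * x + z := hq' ▸ hz
        rw [hA, hB, show q - 2 * x = z by omega, hz]
        nlinarith
      have hAo : A % 2 = 1 := by omega
      have hBo : B % 2 = 1 := by omega
      have hBgt : 1 < B := by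
        have : 2 * x * 2 ≤ q := Nat.mul_le_mul_left _ hx2
        omega
      set a := (q - 1).minFac
      set b := A.minFac
      set c := B.minFac
      have hq4 : 4 ≤ q := by
        have : 2 * x * 2 ≤ q := Nat.mul_le_mul_left _ hx2
        omega
      have ha : a.Prime := Nat.minFac_prime (by omega)
      have hb : b.Prime := Nat.minFac_prime (by omega)
      have hc : c.Prime := Nat.minFac_prime (by omega)
      have hda' : a ∣ q - 1 := (q - 1).minFac_dvd
      have hdb' : b ∣ A := A.minFac_dvd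
      have hdc' : c ∣ B := B.minFac_dvd
      have ha2 : a ≠ 2 := fun e => by rw [e] at hda'; omega
      have hb2 : b ≠ 2 := fun e => by rw [e] at hdb'; omega
      have hc2 : c ≠ 2 := fun e => by rw [e] at hdc'; omega
      have hone : ∀ {d : ℕ}, d.Prime → d ≠ 2 → d ∣ q - 1 → ¬ d ∣ q ^ 2 + 1 := by
        intro d hd hd2 h' h''
        have h3 : q ^ 2 + 1 = (q - 1) * (q + 1) + 2 := by
          obtain ⟨z, hz⟩ := Nat.exists_eq_add_of_le (show 1 ≤ q by omega)
          rw [hz, Nat.add_sub_cancel_left]; ring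
        rw [h3] at h''
        exact hd2 ((Nat.prime_dvd_prime_iff_eq hd Nat.prime_two).1
          ((Nat.dvd_add_right (h'.mul_right _)).1 h''))
      have hbc : b ≠ c := fun e => by
        have h' : b ∣ A - B := Nat.dvd_sub hdb' (e ▸ hdc')
        have hAB : A - B = 2 ^ (m + 2) := by rw [pow_add, ← hx]; omega
        rw [hAB] at h'
        exact hb2 ((Nat.prime_dvd_prime_iff_eq hb Nat.prime_two).1 (hb.dvd_of_dvd_pow h'))
      have hab' : a ≠ b := fun e => hone ha ha2 hda' (hprod ▸ (e ▸ hdb').mul_right B)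
      have hac : a ≠ c := fun e => hone ha ha2 hda' (hprod ▸ (e ▸ hdc').mul_left A)
      refine four_primes_case h5 hG hCIT ha hb hc ?_ ?_
      · simp only [List.nodup_cons, List.mem_cons, List.not_mem_nil, or_false, not_or,
          not_false_eq_true, List.nodup_nil, and_true]
        omega
      · simp only [List.forall_mem_cons, List.not_mem_nil, false_implies, implies_true, and_true]
        rw [hcard, ← hprod]
        refine ⟨heven.trans ?_, hda'.mul_left _, ?_, ?_⟩
        · rw [hcard, ← hprod]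
        · exact ((hdb'.mul_right B).mul_left (q ^ 2)).mul_right (q - 1)
        · exact ((hdc'.mul_left A).mul_left (q ^ 2)).mul_right (q - 1)
  · exfalso
    push Not at hCIT
    obtain ⟨t, ht, hC⟩ := hCIT
    obtain ⟨g, q, hq, hq2, hg⟩ : ∃ (g : G) (q : ℕ), q.Prime ∧ q ≠ 2 ∧ orderOf g = 2 * q := by
      by_contra hne
      push Not at hne
      refine hC (IsPGroup.of_card (Nat.eq_prime_pow_of_unique_prime_dvd Nat.card_pos.ne'
        fun {d} hd hdd => ?_))
      by_contra hd2
      haveI := Fact.mk hd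
      obtain ⟨⟨y, hy⟩, hyo⟩ := exists_prime_orderOf_dvd_card' d hdd
      rw [← Subgroup.orderOf_coe] at hyo
      have hc : Commute y t := Subgroup.mem_centralizer_singleton_iff.1 hy
      refine hne (t * y) d hd hd2 ?_
      rw [hc.symm.orderOf_mul_eq_mul_orderOf_of_coprime
        (by rw [ht, hyo]; exact (Nat.coprime_primes Nat.prime_two hd).2 (Ne.symm hd2)), ht, hyo]
    obtain ⟨s, hs, hs2, hqs, hds⟩ : ∃ s : ℕ, s.Prime ∧ s ≠ 2 ∧ q ≠ s ∧ s ∣ Nat.card G := by
      by_cases hqp : q = p
      · exact ⟨r, hr, hr2, hqp ▸ hpr, hdr⟩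
      · exact ⟨p, hp, hp2, hqp, hdp⟩
    have hq3 := hq.two_le
    have hs3 := hs.two_le
    have h2q : 2 * q ≠ s := fun e => hs2 ((Nat.prime_dvd_prime_iff_eq Nat.prime_two hs).1 ⟨q, e.symm⟩).symm
    obtain ⟨hmem, horb⟩ := five_orders h5 (a := 1) (b := 2) (c := q) (d := s) (e := 2 * q)
      (by
        simp only [List.nodup_cons, List.mem_cons, List.not_mem_nil, or_false, not_or, not_false_eq_true,
          List.nodup_nil, and_true]
        omega)
      (by
        simp only [List.forall_mem_cons, List.not_mem_nil, false_implies, implies_true, and_true]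
        exact ⟨⟨1, orderOf_one⟩, exists_order_of_dvd (g := g) (hg ▸ dvd_mul_right 2 q),
          exists_order_of_dvd (g := g) (hg ▸ dvd_mul_left q 2), exists_order_of_prime_dvd hs hds, ⟨g, hg⟩⟩)
    exact Spec.false (G := G) (p := q) (r := s) ⟨inferInstance, hG, hq, hs, hq.odd_of_ne_two hq2,
      hs.odd_of_ne_two hs2, hqs, fun x => by simpa using hmem x, ⟨g, hg⟩, horb⟩

end Orders

end CfsgLib.FiveOrbit
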